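import Cfsg.Agent.Lib.MaxSub.Symplectic
import Cfsg.Prelude.Def_GeometricClasses

/-!
Shared vocabulary for the maximal subgroups of the symplectic group in dimension twice an odd prime.
-/

set_option autoImplicit false

namespace Cfsg.Agent.Lib.SympTwoPrime

open Matrix Cfsg.Geo
open scoped MatrixGroups Matrix

variable {m : ℕ} {F : Type*} [Field F]

local notation "II" => (Fin m ⊕ Fin m)
local notation "MM" => Matrix (Fin m ⊕ Fin m) (Fin m ⊕ Fin m) F
local notation "VV" => (Fin m ⊕ Fin m → F)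
local notation "GG" => Matrix.GeneralLinearGroup (Fin m ⊕ Fin m) F
local notation "ff" => Cfsg.sympForm m F
local notation "SP" => Cfsg.spGL m F
local notation "ZZ" => Cfsg.Geo.scalars (Fin m ⊕ Fin m) F

section

variable [Fintype F]

/-- Case 1: stabiliser of a totally isotropic subspace. -/
def CaseTI (H : Subgroup GG) : Prop :=
  ∃ W : Submodule F VV, W ≠ ⊥ ∧ IsTotallySingularFor ff W ∧ H = subspaceStabilizer W ⊓ SP

/-- Case 2: stabiliser of a small non-degenerate subspace. -/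
def CaseNd (H : Subgroup GG) : Prop :=
  ∃ W : Submodule F VV, W ≠ ⊥ ∧ IsNondegenerateOn ff W ∧ Module.finrank F W < m ∧ H = subspaceStabilizer W ⊓ SP

/-- Case 3: stabiliser of a decomposition into planes. -/
def CasePlanes (H : Subgroup GG) : Prop :=
  3 ≤ Fintype.card F ∧ ∃ D : Fin m → Submodule F VV,
    IsNondegenerateMDecomposition ff 2 D ∧ H = decompositionStabilizer D ⊓ SP

/-- Case 4: stabiliser of a pair of maximal totally isotropic subspaces. -/
def CasePair (H : Subgroup GG) : Prop :=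
  Odd (Fintype.card F) ∧ ∃ D : Fin 2 → Submodule F VV,
    IsMDecomposition m D ∧ (∀ i, IsTotallySingularFor ff (D i)) ∧ H = decompositionStabilizer D ⊓ SP

/-- Case 5: normaliser of a self-adjoint field of degree m. -/
def CaseFieldM (H : Subgroup GG) : Prop :=
  ∃ K : Subalgebra F MM, IsFieldSubalgebra m K ∧ IsSelfAdjointFor ff K ∧
    (∀ k ∈ K, ∀ v : VV, ff (Matrix.mulVec k v) v = 0) ∧ H = subalgebraNormalizer K ⊓ SP

/-- Case 6: normaliser of a quadratic field, unitary type. -/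
def CaseFieldTwo (H : Subgroup GG) : Prop :=
  Odd (Fintype.card F) ∧ ∃ K : Subalgebra F MM, IsFieldSubalgebra 2 K ∧ IsAdjointClosedFor ff K ∧
    ¬ IsSelfAdjointFor ff K ∧ H = subalgebraNormalizer K ⊓ SP

/-- Case 7: tensor decomposition. -/
def CaseTensor (H : Subgroup GG) : Prop :=
  Odd (Fintype.card F) ∧ (m = 3 → 5 ≤ Fintype.card F) ∧
    ∃ (e : II ≃ Fin 2 × Fin m) (P : GG) (f₁ : (Fin 2 → F) → (Fin 2 → F) → F)
      (f₂ : (Fin m → F) → (Fin m → F) → F), IsSymplecticForm f₁ ∧ IsSymmetricForm f₂ ∧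
      IsTensorFormStructure id ff f₁ f₂ e P ∧ H = tensorProductSubgroup 2 m e P ⊓ SP

/-- Case 8: subfield group. -/
def CaseSubfield (H : Subgroup GG) : Prop :=
  ∃ (F₀ : Subfield F) (r : ℕ) (P : GG) (ζ : F), r.Prime ∧ Fintype.card F = Nat.card F₀ ^ r ∧ ζ ≠ 0 ∧
    IsFormRationalStructure ff F₀ ζ P ∧ H = subfieldSubgroup F₀ P ⊓ SP

/-- Case 9: orthogonal group in characteristic two. -/
def CaseQuad (H : Subgroup GG) : Prop :=
  ¬ Odd (Fintype.card F) ∧ ∃ Q : VV → F, IsNondegenerateQuadraticForm Q ∧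
    (∀ u v : VV, QuadraticMap.polar Q u v = ff u v) ∧ H = quadSimilarityGroup Q ⊓ SP

/-- The list of cases. -/
def Cases (H : Subgroup GG) : Prop :=
  CaseTI H ∨ CaseNd H ∨ CasePlanes H ∨ CasePair H ∨ CaseFieldM H ∨ CaseFieldTwo H ∨ CaseTensor H ∨
    CaseSubfield H ∨ CaseQuad H ∨ InSymplecticResidualClass H

end

/-- `N` is a minimal non-scalar subgroup normalised by `H`. -/
structure Minimal (H N : Subgroup GG) : Prop where
  le : N ≤ H
  normal : ∀ h ∈ H, ∀ x ∈ N, h * x * h⁻¹ ∈ N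
  nonscalar : ¬ N ≤ ZZ
  minimal : ∀ M : Subgroup GG, M ≤ N → (∀ h ∈ H, ∀ x ∈ M, h * x * h⁻¹ ∈ M) → M ≤ ZZ ∨ M = N

/-- The residual-core conditions other than the one on subfields. -/
structure Core (H P : Subgroup GG) : Prop where
  le : P ≤ H
  normal : ∀ h ∈ H, ∀ x ∈ P, h * x * h⁻¹ ∈ P
  perfect : ⁅P, P⁆ = P
  simple : IsSimpleGroup (P ⧸ (ZZ).subgroupOf P)
  nonabelian : ¬ IsMulCommutative (P ⧸ (ZZ).subgroupOf P)
  centralizer_scalar : ∀ h ∈ H, (∀ x ∈ P, h * x * h⁻¹ * x⁻¹ ∈ ZZ) → h ∈ ZZ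
  absIrred : ActsAbsolutelyIrreducibly (matrixSet P)

theorem Core.toResidual {H P : Subgroup GG} (h : Core H P)
    (hsub : ∀ F₀ : Subfield F, F₀ ≠ ⊤ → ¬ RealisableOver F₀ (matrixSet P)) : IsResidualCore H P :=
  ⟨h.le, h.normal, h.perfect, h.simple, h.nonabelian, h.centralizer_scalar, h.absIrred, hsub⟩

theorem eq_inf_of_le {H M : Subgroup GG} (hH : IsMaximalIn SP H) (hle : H ≤ M) (hne : ¬ SP ≤ M) :
    H = M ⊓ SP := by
  rcases hH.2 (M ⊓ SP) (le_inf hle hH.1.le) inf_le_right with h | h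
  · exact h.symm
  · exact absurd (h.ge.trans inf_le_left) hne

theorem sp_bilinear : IsBilinearForm (ff : VV → VV → F) := by
  refine ⟨fun x y v => ?_, fun c x v => ?_, fun v x y => ?_, fun c v x => ?_⟩
  all_goals simp only [← Cfsg.Agent.Lib.MaxSub.stdAlt_apply, map_add, map_smul, LinearMap.add_apply,
    LinearMap.smul_apply, smul_eq_mul]

theorem sp_symplectic : IsSymplecticForm (ff : VV → VV → F) := by
  refine ⟨sp_bilinear, fun v w => ?_, fun v => ?_, fun v hv => ⟨?_, ?_⟩⟩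
  · simp only [← Cfsg.Agent.Lib.MaxSub.stdAlt_apply]
    exact (Cfsg.Agent.Lib.MaxSub.stdAlt m F).skew v w
  · simp only [← Cfsg.Agent.Lib.MaxSub.stdAlt_apply]
    exact (Cfsg.Agent.Lib.MaxSub.stdAlt m F).alt v
  all_goals
    by_contra h
    push Not at h
    refine hv ((Cfsg.Agent.Lib.MaxSub.stdAlt m F).nondeg v fun x => ?_)
  · rw [Cfsg.Agent.Lib.MaxSub.stdAlt_apply]; exact h x
  · rw [(Cfsg.Agent.Lib.MaxSub.stdAlt m F).skew, Cfsg.Agent.Lib.MaxSub.stdAlt_apply, h x, neg_zero]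

end Cfsg.Agent.Lib.SympTwoPrime
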