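import Cfsg.Agent.Lib.PrimeDim.FormDescent
import Cfsg.Agent.Lib.SympTwoPrime.Defs

/-!
Residual step for maximal subgroups of the symplectic group: a perfect absolutely irreducible normal subgroup
gives a subfield group, an orthogonal group in characteristic two, or the residual class.
-/

set_option autoImplicit false

namespace Cfsg.Agent.Lib.SympTwoPrime

open Matrix Cfsg.Geo
open Cfsg.Agent.Lib
open scoped MatrixGroups Matrix

variable {F : Type*} [Field F] {m : ℕ}

theorem sympBilinear : IsBilinearForm (Cfsg.sympForm m F) where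
  add_left x y v := by simp only [← MaxSub.stdAlt_apply, map_add, LinearMap.add_apply]
  smul_left c x v := by simp only [← MaxSub.stdAlt_apply, map_smul, LinearMap.smul_apply, smul_eq_mul]
  add_right v x y := by simp only [← MaxSub.stdAlt_apply, map_add]
  smul_right c v x := by simp only [← MaxSub.stdAlt_apply, map_smul, smul_eq_mul]

theorem sympSkew (u v : Fin m ⊕ Fin m → F) : Cfsg.sympForm m F u v = - Cfsg.sympForm m F v u := by
  simp only [← MaxSub.stdAlt_apply]
  exact (MaxSub.stdAlt m F).skew u v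

theorem sympPartner {v : Fin m ⊕ Fin m → F} (hv : v ≠ 0) : ∃ x, Cfsg.sympForm m F x v ≠ 0 := by
  by_contra h
  simp only [not_exists, not_not, ← MaxSub.stdAlt_apply] at h
  exact hv ((MaxSub.stdAlt m F).nondeg v h)

theorem sympNondeg : IsNondegenerateForm (Cfsg.sympForm m F) := fun v hv => by
  obtain ⟨x, hx⟩ := sympPartner hv
  exact ⟨⟨x, hx⟩, x, by rw [sympSkew]; exact neg_ne_zero.2 hx⟩

/-- Maximality in the symplectic group. -/
theorem eq_of_maximal {H X : Subgroup (GL (Fin m ⊕ Fin m) F)} (hH : IsMaximalIn (Cfsg.spGL m F) H) (hle : H ≤ X)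
    (hX : ¬ Cfsg.spGL m F ≤ X) : H = X ⊓ Cfsg.spGL m F := by
  rcases hH.2 (X ⊓ Cfsg.spGL m F) (le_inf hle hH.1.le) inf_le_right with h | h
  · exact h.symm
  · exact absurd (h ▸ inf_le_left) hX

/-- The symplectic group is in no subfield group of a proper subfield. -/
theorem spGL_not_le_subfield (hm : 1 ≤ m) {F₀ : Subfield F} (h0 : F₀ ≠ ⊤) (B : GL (Fin m ⊕ Fin m) F) :
    ¬ Cfsg.spGL m F ≤ subfieldSubgroup F₀ B := by
  intro hle
  set e : Fin m ⊕ Fin m → (Fin m ⊕ Fin m → F) := fun j => (B : Matrix _ _ F) *ᵥ Pi.single j 1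
  have he : ∀ j, MaxSub.RatVec F₀ B (e j) := fun j => (MaxSub.ratVec_mulVec _).2 fun i => by
    rw [Pi.single_apply]; split_ifs
    exacts [F₀.one_mem, F₀.zero_mem]
  have hBinj : Function.Injective ((B : Matrix (Fin m ⊕ Fin m) (Fin m ⊕ Fin m) F).mulVec) :=
    Matrix.mulVec_injective_iff_isUnit.2 B.isUnit
  let j₀ : Fin m ⊕ Fin m := Sum.inl ⟨0, hm⟩
  have hw0 : e j₀ ≠ 0 := fun h => by
    have := congrFun (hBinj (h.trans (Matrix.mulVec_zero _).symm)) j₀
    simp at this
  obtain ⟨j, hj⟩ : ∃ j, (MaxSub.stdAlt m F).B (e j) (e j₀) ≠ 0 := by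
    by_contra h
    simp only [not_exists, not_not] at h
    refine hw0 ((MaxSub.stdAlt m F).nondeg _ fun x => ?_)
    have hx : x = (B : Matrix (Fin m ⊕ Fin m) (Fin m ⊕ Fin m) F) *ᵥ
        (∑ i, (((B⁻¹ : GL (Fin m ⊕ Fin m) F) : Matrix (Fin m ⊕ Fin m) (Fin m ⊕ Fin m) F) *ᵥ x) i •
          Pi.single i (1 : F)) := by
      rw [← pi_eq_sum_univ', Matrix.mulVec_mulVec, ← Units.val_mul, mul_inv_cancel, Units.val_one, Matrix.one_mulVec]
    rw [hx, Matrix.mulVec_sum, map_sum, LinearMap.coe_sum, Finset.sum_apply]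
    refine Finset.sum_eq_zero fun i _ => ?_
    rw [Matrix.mulVec_smul, map_smul, LinearMap.smul_apply, h i, smul_zero]
  set β := (MaxSub.stdAlt m F).B (e j) (e j₀) with hβ
  apply h0
  refine eq_top_iff.2 fun a _ => ?_
  set g := (MaxSub.stdAlt m F).trans (e j₀) (a / β) with hg
  obtain ⟨c, hc, hgc⟩ := MaxSub.subfieldSubgroup_apply
    (hle (MaxSub.mem_spGL_iff.2 ((MaxSub.stdAlt m F).trans_preserves _ _) : g ∈ Cfsg.spGL m F))
  obtain ⟨y, hy, hgy⟩ := hgc _ (he j₀)
  rw [hg, MaxSub.AltForm.trans_mulVec, (MaxSub.stdAlt m F).alt, mul_zero, zero_smul, add_zero] at hgy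
  have hcF : c⁻¹ ∈ F₀ := (he j₀).coeff_mem hw0 (by rw [hgy, inv_smul_smul₀ hc]; exact hy)
  obtain ⟨z, hz, hgz⟩ := hgc _ (he j)
  rw [hg, MaxSub.AltForm.trans_mulVec, ← hβ, div_mul_cancel₀ _ hj] at hgz
  refine (he j₀).coeff_mem hw0 ?_
  have e2 : a • e j₀ = c • z - e j := by rw [← hgz]; abel
  rw [e2]
  exact (hz.smul (by simpa using F₀.inv_mem hcF)).sub (he j)

/-- The symplectic group is in no orthogonal similarity group. -/
theorem spGL_not_le_quad [Fintype F] (hm : 2 ≤ m) {Q : (Fin m ⊕ Fin m → F) → F}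
    (hQ : IsNondegenerateQuadraticForm Q) (hpol : ∀ u v, QuadraticMap.polar Q u v = Cfsg.sympForm m F u v) :
    ¬ Cfsg.spGL m F ≤ quadSimilarityGroup Q := by
  classical
  intro hle
  set B := (MaxSub.stdAlt m F).B with hB
  have hadd : ∀ u v, Q (u + v) = Q u + Q v + B u v := fun u v => by
    have h := hpol u v
    rw [← MaxSub.stdAlt_apply, QuadraticMap.polar] at h
    linear_combination h
  -- a transvection changes the form by an explicit amount
  have key : ∀ w x, ∀ c : F, ∃ μ : Fˣ, Q w = (μ : F) * Q w ∧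
      Q x + (c * B x w) ^ 2 * Q w + c * B x w * B x w = (μ : F) * Q x := by
    intro w x c
    obtain ⟨μ, hμ⟩ := hle (MaxSub.mem_spGL_iff.2 ((MaxSub.stdAlt m F).trans_preserves w c) :
      (MaxSub.stdAlt m F).trans w c ∈ Cfsg.spGL m F)
    refine ⟨μ, ?_, ?_⟩
    · have h := hμ w
      rwa [MaxSub.AltForm.trans_mulVec, (MaxSub.stdAlt m F).alt, mul_zero, zero_smul, add_zero] at h
    · have h := hμ x
      rw [MaxSub.AltForm.trans_mulVec, hadd, hQ.smul, map_smul, smul_eq_mul] at h
      exact h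
  have hne : Nontrivial (Fin m ⊕ Fin m → F) := by
    haveI : Nonempty (Fin m ⊕ Fin m) := ⟨Sum.inl ⟨0, by omega⟩⟩
    infer_instance
  by_cases hall : ∃ w, w ≠ 0 ∧ Q w ≠ 0 ∧ ∃ c : F, c ≠ 0 ∧ c * Q w + 1 ≠ 0
  · obtain ⟨w, hw, hQw, c, hc, hc1⟩ := hall
    obtain ⟨x, hx⟩ := sympPartner hw
    rw [← MaxSub.stdAlt_apply, ← hB] at hx
    obtain ⟨μ, h1, h2⟩ := key w x c
    have hμ : (μ : F) = 1 := mul_right_cancel₀ hQw (by rw [one_mul, ← h1])
    rw [hμ, one_mul] at h2
    have h3 : c * (B x w * B x w) * (c * Q w + 1) = 0 := by linear_combination h2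
    simp [hc, hx, hc1] at h3
  simp only [not_exists, not_and, not_not] at hall
  -- otherwise the field has two elements
  have h2F : ∀ c : F, c ≠ 0 → ∀ d : F, d ≠ 0 → ∀ w, w ≠ 0 → Q w ≠ 0 → c = d := by
    intro c hc d hd w hw hQw
    have e1 := hall w hw hQw c hc
    have e2 := hall w hw hQw d hd
    exact mul_right_cancel₀ hQw (by linear_combination e1 - e2)
  obtain ⟨w₁, hw₁, hQ₁⟩ : ∃ w, w ≠ 0 ∧ Q w ≠ 0 := by
    by_contra h
    simp only [not_exists, not_and, not_not] at h
    have hz : ∀ w, Q w = 0 := fun w => by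
      rcases eq_or_ne w 0 with rfl | hw
      · simpa using hQ.smul 0 0
      · exact h w hw
    obtain ⟨w, hw⟩ := exists_ne (0 : Fin m ⊕ Fin m → F)
    obtain ⟨x, hx⟩ := sympPartner hw
    rw [← MaxSub.stdAlt_apply, ← hB] at hx
    have := hadd x w
    rw [hz, hz, hz] at this
    exact hx (by linear_combination -this)
  have hone : ∀ c : F, c ≠ 0 → c = 1 := fun c hc => h2F c hc 1 one_ne_zero w₁ hw₁ hQ₁
  have hQ01 : ∀ w, Q w = 0 ∨ Q w = 1 := fun w => (em (Q w = 0)).imp_right (hone _)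
  obtain ⟨w, hw, hQw⟩ : ∃ w, w ≠ 0 ∧ Q w = 0 := by
    let i₀ : Fin m := ⟨0, by omega⟩
    let i₁ : Fin m := ⟨1, by omega⟩
    let u : Fin m ⊕ Fin m → F := Pi.single (Sum.inl i₀) 1
    let z : Fin m ⊕ Fin m → F := Pi.single (Sum.inl i₁) 1
    have huz : B u z = 0 := by
      rw [hB, MaxSub.stdAlt_apply, Cfsg.sympForm]
      simp [u, z, Matrix.J, i₀, i₁]
    have hu : u ≠ 0 := fun h => by simpa [u] using congrFun h (Sum.inl i₀)
    have hz : z ≠ 0 := fun h => by simpa [z] using congrFun h (Sum.inl i₁)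
    have huz0 : u + z ≠ 0 := fun h => by
      have := congrFun h (Sum.inl i₀)
      simp [u, z, i₀, i₁, Fin.ext_iff] at this
    rcases hQ01 u with h | h
    · exact ⟨u, hu, h⟩
    rcases hQ01 z with h' | h'
    · exact ⟨z, hz, h'⟩
    refine ⟨u + z, huz0, ?_⟩
    rw [hadd, h, h', huz, add_zero]
    by_contra h11
    have := hone _ h11
    simp at this
  obtain ⟨x, hx⟩ := sympPartner hw
  rw [← MaxSub.stdAlt_apply, ← hB] at hx
  obtain ⟨μ, -, h2⟩ := key w x 1
  rw [hone _ μ.ne_zero, hQw, one_mul, hone _ hx] at h2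
  simp at h2

/-- A perfect absolutely irreducible normal subgroup gives one of the cases subfield, orthogonal, residual. -/
theorem forms [Fintype F] (hm : 2 ≤ m) {H P : Subgroup (GL (Fin m ⊕ Fin m) F)}
    (hH : IsMaximalIn (Cfsg.spGL m F) H) (le : P ≤ H) (normal : ∀ h ∈ H, ∀ x ∈ P, h * x * h⁻¹ ∈ P)
    (perfect : ⁅P, P⁆ = P) (simple : IsSimpleGroup (P ⧸ (scalars (Fin m ⊕ Fin m) F).subgroupOf P))
    (nonabelian : ¬ IsMulCommutative (P ⧸ (scalars (Fin m ⊕ Fin m) F).subgroupOf P))
    (centralizer_scalar : ∀ h ∈ H, (∀ x ∈ P, h * x * h⁻¹ * x⁻¹ ∈ scalars (Fin m ⊕ Fin m) F) →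
      h ∈ scalars (Fin m ⊕ Fin m) F)
    (habs : ActsAbsolutelyIrreducibly (matrixSet P)) :
    (∃ (F₀ : Subfield F) (r : ℕ) (B : GL (Fin m ⊕ Fin m) F) (ζ : F), r.Prime ∧
        Fintype.card F = Nat.card F₀ ^ r ∧ ζ ≠ 0 ∧ IsFormRationalStructure (Cfsg.sympForm m F) F₀ ζ B ∧
        H = subfieldSubgroup F₀ B ⊓ Cfsg.spGL m F) ∨
    (¬ Odd (Fintype.card F) ∧ ∃ Q : (Fin m ⊕ Fin m → F) → F, IsNondegenerateQuadraticForm Q ∧
        (∀ u v, QuadraticMap.polar Q u v = Cfsg.sympForm m F u v) ∧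
        H = quadSimilarityGroup Q ⊓ Cfsg.spGL m F) ∨
    InSymplecticResidualClass H := by
  classical
  haveI : Nonempty (Fin m ⊕ Fin m) := ⟨Sum.inl ⟨0, by omega⟩⟩
  have hfix : FixesForm (matrixSet P) (Cfsg.sympForm m F) := by
    rintro _ ⟨p, hp, rfl⟩ u v
    have h := MaxSub.mem_spGL_iff.1 (hH.1.le (le hp)) u v
    rwa [MaxSub.stdAlt_apply, MaxSub.stdAlt_apply] at h
  by_cases hsub : ∃ F₀ : Subfield F, F₀ ≠ ⊤ ∧ RealisableOver F₀ (matrixSet P)
  · obtain ⟨F₀, h0, hreal⟩ := hsub
    obtain ⟨F₁, r, h1, hr, hc, hreal₁⟩ := PrimeDim.FormDescent.exists_prime_index_realisable h0 hreal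
    obtain ⟨B, ζ, hζ, hB, hN⟩ :=
      PrimeDim.FormDescent.exists_bilinear_structure sympBilinear sympNondeg habs hfix hreal₁
    refine Or.inl ⟨F₁, r, B, ζ, hr, by rw [← Nat.card_eq_fintype_card]; exact hc, hζ, hB, ?_⟩
    exact eq_of_maximal hH (fun h hh => hN h fun x hx => normal h hh x hx) (spGL_not_le_subfield (by omega) h1 B)
  simp only [not_exists, not_and] at hsub
  have hform := PrimeDim.FormDescent.form_eq (RingHom.id F) (Cfsg.sympForm m F) sympBilinear.add_left
    sympBilinear.smul_left sympBilinear.add_right sympBilinear.smul_right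
  have hunit := PrimeDim.FormDescent.gram_isUnit _ _ hform sympNondeg
  have hgfix := PrimeDim.FormDescent.fixes_gram _ _ hform hfix
  by_cases hQ : ∃ Q : (Fin m ⊕ Fin m → F) → F, IsNondegenerateQuadraticForm Q ∧ FixesQuadForm (matrixSet P) Q
  · obtain ⟨Q, hQ, hQfix⟩ := hQ
    refine Or.inr (Or.inl ?_)
    have hb := hQ.polar_bilinear
    have hformQ := PrimeDim.FormDescent.form_eq (RingHom.id F) (QuadraticMap.polar Q) hb.add_left hb.smul_left
      hb.add_right hb.smul_right
    have hQfix' : FixesForm (matrixSet P) (QuadraticMap.polar Q) := fun s hs u v => by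
      simp only [QuadraticMap.polar, ← Matrix.mulVec_add, hQfix s hs]
    have hQgfix := PrimeDim.FormDescent.fixes_gram _ _ hformQ hQfix'
    -- by Schur's lemma the polar form is a multiple of the symplectic form
    obtain ⟨U, hU⟩ := hunit
    have hid : ∀ X : Matrix (Fin m ⊕ Fin m) (Fin m ⊕ Fin m) F, X.map (RingHom.id F) = X := fun X => by ext; rfl
    obtain ⟨c, hc⟩ := habs.2 ((↑U⁻¹ : Matrix _ _ F) * gramMatrix (QuadraticMap.polar Q)) fun s hs => by
      obtain ⟨p, hp, rfl⟩ := hs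
      obtain ⟨t, ht⟩ : IsUnit (p : Matrix (Fin m ⊕ Fin m) (Fin m ⊕ Fin m) F)ᵀ :=
        (Matrix.isUnit_transpose _).2 p.isUnit
      obtain ⟨V, hV⟩ := PrimeDim.FormDescent.gram_isUnit _ _ hformQ hQ.nondegenerate
      have e1 : t * U * p = U := Units.ext (by
        rw [Units.val_mul, Units.val_mul, ht, hU]; simpa only [hid] using hgfix p hp)
      have e2 : t * V * p = V := Units.ext (by
        rw [Units.val_mul, Units.val_mul, ht, hV]; simpa only [hid] using hQgfix p hp)
      rw [← hV, ← Units.val_mul, ← Units.val_mul, ← Units.val_mul]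
      congr 1
      calc U⁻¹ * V * p = p * (t * U * p)⁻¹ * (t * V * p) := by group
        _ = _ := by rw [e1, e2, mul_assoc]
    have hgram : gramMatrix (QuadraticMap.polar Q) = c • gramMatrix (Cfsg.sympForm m F) := by
      have h := congrArg (fun X : Matrix _ _ F => (U : Matrix _ _ F) * X) hc
      simp only [← mul_assoc, Units.mul_inv, one_mul, Matrix.mul_smul, mul_one] at h
      rw [h, hU]
    have hpol : ∀ u v, QuadraticMap.polar Q u v = c * Cfsg.sympForm m F u v := fun u v => by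
      rw [hformQ, hform, Finset.mul_sum]
      refine Finset.sum_congr rfl fun i _ => ?_
      rw [Finset.mul_sum]
      refine Finset.sum_congr rfl fun j _ => ?_
      rw [hgram, Matrix.smul_apply, smul_eq_mul]
      ring
    obtain ⟨w, hw⟩ := exists_ne (0 : Fin m ⊕ Fin m → F)
    have hc0 : c ≠ 0 := by
      rintro rfl
      obtain ⟨⟨x, hx⟩, -⟩ := hQ.nondegenerate w hw
      exact hx (by rw [hpol, zero_mul])
    have h2 : (2 : F) = 0 := by
      obtain ⟨x, hx⟩ := sympPartner hw
      have h := QuadraticMap.polar_comm Q x w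
      rw [hpol, hpol, sympSkew w x] at h
      have : (2 : F) * (c * Cfsg.sympForm m F x w) = 0 := by linear_combination h
      exact (mul_eq_zero.1 this).resolve_right (mul_ne_zero hc0 hx)
    have heven : ¬ Odd (Fintype.card F) := by
      intro hodd
      haveI : CharP F 2 := CharTwo.of_one_ne_zero_of_two_eq_zero one_ne_zero h2
      have h := FiniteField.even_card_of_char_two (F := F) (by rw [ringChar.eq F 2])
      exact (Nat.not_even_iff_odd.2 hodd) (by simpa [Nat.even_iff] using h)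
    set Q' : (Fin m ⊕ Fin m → F) → F := fun v => c⁻¹ * Q v with hQ'
    have hpol' : ∀ u v, QuadraticMap.polar Q' u v = Cfsg.sympForm m F u v := fun u v => by
      have h := hpol u v
      rw [QuadraticMap.polar] at h
      simp only [QuadraticMap.polar, hQ']
      rw [← mul_sub, ← mul_sub, h, inv_mul_cancel_left₀ hc0]
    have hsmul' : ∀ (a : F) v, Q' (a • v) = a ^ 2 * Q' v := fun a v => by simp only [hQ', hQ.smul]; ring
    have hnd' : IsNondegenerateQuadraticForm Q' := by
      have hfun : QuadraticMap.polar Q' = Cfsg.sympForm m F := funext fun u => funext fun v => hpol' u v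
      exact ⟨hsmul', hfun ▸ sympBilinear, hfun ▸ sympNondeg⟩
    have hfixQ' : ∀ p ∈ P, ∀ v, Q' ((p : Matrix _ _ F) *ᵥ v) = Q' v := fun p hp v => by
      simp only [hQ']; rw [hQfix _ ⟨p, hp, rfl⟩]
    refine ⟨heven, Q', hnd', hpol', eq_of_maximal hH (fun h hh => ⟨1, fun v => ?_⟩) (spGL_not_le_quad hm hnd' hpol')⟩
    -- the difference of two forms with the same polar form is additive and invariant
    let d : (Fin m ⊕ Fin m → F) → F := fun v => Q' ((h : Matrix _ _ F) *ᵥ v) - Q' v
    have hhsp := MaxSub.mem_spGL_iff.1 (hH.1.le hh)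
    have hdadd : ∀ u v, d (u + v) = d u + d v := fun u v => by
      have e1 := hpol' u v
      have e2 := hpol' ((h : Matrix _ _ F) *ᵥ u) ((h : Matrix _ _ F) *ᵥ v)
      have e3 := hhsp u v
      rw [MaxSub.stdAlt_apply, MaxSub.stdAlt_apply] at e3
      rw [e3] at e2
      simp only [QuadraticMap.polar] at e1 e2
      simp only [d, Matrix.mulVec_add]
      linear_combination e2 - e1
    have hdsmul : ∀ (a : F) v, d (a • v) = a ^ 2 * d v := fun a v => by
      simp only [d, Matrix.mulVec_smul, hsmul']; ring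
    let W : Submodule F (Fin m ⊕ Fin m → F) :=
      { carrier := {v | d v = 0}
        add_mem' := fun {a b} (ha : d a = 0) (hb : d b = 0) => show d (a + b) = 0 by rw [hdadd, ha, hb, add_zero]
        zero_mem' := show d 0 = 0 by simpa using hdsmul 0 0
        smul_mem' := fun a v (hv : d v = 0) => show d (a • v) = 0 by rw [hdsmul, hv, mul_zero] }
    have hinv : ∀ p ∈ P, ∀ v, d ((p : Matrix _ _ F) *ᵥ v) = d v := fun p hp v => by
      have hq := normal h hh p hp
      simp only [d]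
      rw [hfixQ' p hp, Matrix.mulVec_mulVec, ← Units.val_mul,
        show h * p = (h * p * h⁻¹) * h by group, Units.val_mul, ← Matrix.mulVec_mulVec, hfixQ' _ hq]
    rcases habs.1 W (by
      rintro _ ⟨p, hp, rfl⟩ _ ⟨v, hv, rfl⟩
      show d (Matrix.toLin' (p : Matrix _ _ F) v) = 0
      rw [Matrix.toLin'_apply, hinv p hp]; exact hv) with hW | hW
    · exfalso
      have hinj : Function.Injective d := fun a b hab => by
        have hmem : a - b ∈ W := by
          show d (a - b) = 0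
          have := hdadd (a - b) b
          rw [sub_add_cancel, hab] at this
          linear_combination -this
        rw [hW, Submodule.mem_bot, sub_eq_zero] at hmem
        exact hmem
      have := Fintype.card_le_of_injective d hinj
      rw [Fintype.card_fun, Fintype.card_sum, Fintype.card_fin] at this
      have h1 : 1 < Fintype.card F := Fintype.one_lt_card
      have : Fintype.card F ^ 1 < Fintype.card F ^ (m + m) := Nat.pow_lt_pow_right h1 (by omega)
      rw [pow_one] at this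
      omega
    · have hv : d v = 0 := (hW ▸ Submodule.mem_top : v ∈ W)
      rw [Units.val_one, one_mul]
      exact sub_eq_zero.1 hv
  · refine Or.inr (Or.inr ⟨P, ⟨le, normal, perfect, simple, nonabelian, centralizer_scalar, habs, hsub⟩, hQ, ?_⟩)
    rintro ⟨σ, g, hg, hgf⟩
    obtain ⟨F₀, h0, -, hreal⟩ := PrimeDim.FormDescent.realisable_of_two_forms hg hunit habs hgf fun p hp => by
      have e := hgfix p hp
      rwa [show (p : Matrix (Fin m ⊕ Fin m) (Fin m ⊕ Fin m) F).map (RingHom.id F) =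
        (p : Matrix (Fin m ⊕ Fin m) (Fin m ⊕ Fin m) F) by ext; rfl] at e
    exact hsub F₀ h0 hreal

/-- The residual step in terms of the list of cases. -/
theorem forms_cases [Fintype F] (hm : 2 ≤ m) {H P : Subgroup (GL (Fin m ⊕ Fin m) F)}
    (hH : IsMaximalIn (Cfsg.spGL m F) H) (hC : Core H P) : Cases H := by
  rcases forms hm hH hC.le hC.normal hC.perfect hC.simple hC.nonabelian hC.centralizer_scalar hC.absIrred with
    h | h | h
  · exact Or.inr (Or.inr (Or.inr (Or.inr (Or.inr (Or.inr (Or.inr (Or.inl h)))))))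
  · exact Or.inr (Or.inr (Or.inr (Or.inr (Or.inr (Or.inr (Or.inr (Or.inr (Or.inl h))))))))
  · exact Or.inr (Or.inr (Or.inr (Or.inr (Or.inr (Or.inr (Or.inr (Or.inr (Or.inr h))))))))

end Cfsg.Agent.Lib.SympTwoPrime
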