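import Cfsg.Agent.Lib.SympTwoPrime.Defs
import Cfsg.Agent.Lib.Classical.SympSimple
import Cfsg.Agent.Lib.MaxSub.Subfield

/-!
helper12: the symplectic group lies in none of the geometric stabilisers.
-/

set_option autoImplicit false
set_option linter.unusedSectionVars false

namespace Cfsg.Agent.Lib.SympTwoPrime

open Matrix Cfsg.Geo Cfsg.Agent.Lib.MaxSub
open scoped MatrixGroups Matrix commutatorElement

variable {m : ℕ} {F : Type*} [Field F]

local notation "II" => (Fin m ⊕ Fin m)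
local notation "MM" => Matrix (Fin m ⊕ Fin m) (Fin m ⊕ Fin m) F
local notation "VV" => (Fin m ⊕ Fin m → F)
local notation "GG" => Matrix.GeneralLinearGroup (Fin m ⊕ Fin m) F
local notation "ff" => Cfsg.sympForm m F
local notation "SP" => Cfsg.spGL m F
local notation "ZZ" => Cfsg.Geo.scalars (Fin m ⊕ Fin m) F
local notation "AA" => Cfsg.Agent.Lib.MaxSub.stdAlt m F

theorem trans_mem_sp (w : VV) (c : F) : (AA).trans w c ∈ SP :=
  mem_spGL_iff.mpr ((AA).trans_preserves w c)

theorem exists_pair_ne {w : VV} (hw : w ≠ 0) : ∃ y, (AA).B w y ≠ 0 := by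
  by_contra h
  push Not at h
  exact hw ((AA).nondeg w fun x => by rw [(AA).skew, h x, neg_zero])

theorem exists_out_ne {W : Submodule F VV} (h1 : W ≠ ⊤) {w : VV} (hw : w ≠ 0) :
    ∃ u, u ∉ W ∧ (AA).B w u ≠ 0 := by
  obtain ⟨y, hy⟩ := exists_pair_ne hw
  obtain ⟨u₀, hu₀⟩ : ∃ u, u ∉ W := by
    by_contra hc
    push Not at hc
    exact h1 (Submodule.eq_top_iff'.mpr hc)
  by_cases hyW : y ∈ W
  · by_cases hu : (AA).B w u₀ = 0
    · exact ⟨u₀ + y, fun h => hu₀ ((Submodule.add_mem_iff_left W hyW).mp h),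
        by rw [map_add, hu, zero_add]; exact hy⟩
    · exact ⟨u₀, hu₀, hu⟩
  · exact ⟨y, hyW, hy⟩

theorem not_le_subspaceStabilizer {W : Submodule F VV} (h0 : W ≠ ⊥) (h1 : W ≠ ⊤) :
    ¬ SP ≤ subspaceStabilizer W := by
  intro hle
  obtain ⟨w, hw, hw0⟩ := (Submodule.ne_bot_iff W).mp h0
  obtain ⟨u, hu, hwu⟩ := exists_out_ne h1 hw0
  have h := subspaceStabilizer_apply (hle (trans_mem_sp u (1 : F))) hw
  rw [AltForm.trans_mulVec, one_mul, Submodule.add_mem_iff_right W hw] at h
  exact hu ((Submodule.smul_mem_iff W hwu).mp h)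

theorem not_le_decompositionStabilizer (hm : 2 ≤ m) {t k : ℕ} {D : Fin t → Submodule F VV}
    (hD : IsMDecomposition k D) : ¬ SP ≤ decompositionStabilizer D := by
  intro hle
  have hdisj : ∀ i j, i ≠ j → Disjoint (D i) (D j) := fun i j hij => hD.indep.pairwiseDisjoint hij
  have hne : ∀ i, D i ≠ ⊥ := fun i h => by
    have h2 := hD.finrank_eq i
    rw [h, finrank_bot] at h2
    exact absurd h2.symm (Nat.pos_iff_ne_zero.mp hD.pos)
  have hnt : ∀ i, D i ≠ ⊤ := fun i h => by
    obtain ⟨j, hij⟩ : ∃ j, j ≠ i := by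
      haveI : Nontrivial (Fin t) := Fin.nontrivial_iff_two_le.mpr hD.two_le
      exact exists_ne i
    have h2 := hdisj i j (Ne.symm hij)
    rw [h, top_disjoint] at h2
    exact hne j h2
  have i₀ : Fin t := ⟨0, lt_of_lt_of_le two_pos hD.two_le⟩
  rcases Nat.lt_or_ge k 2 with hk | hk
  · obtain rfl : k = 1 := le_antisymm (Nat.lt_succ_iff.mp hk) hD.pos
    choose x hx hx0 using fun i => (Submodule.ne_bot_iff _).mp (hne i)
    have hspan : ∀ i, D i = F ∙ x i := fun i =>
      (Submodule.eq_of_le_of_finrank_eq ((Submodule.span_singleton_le_iff_mem _ _).mpr (hx i))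
        (by rw [finrank_span_singleton (hx0 i), hD.finrank_eq])).symm
    have hli : LinearIndependent F x := hD.indep.linearIndependent D hx hx0
    have htop : Submodule.span F (Set.range x) = ⊤ := by
      rw [Submodule.span_range_eq_iSup, ← hD.iSup_eq_top]
      exact iSup_congr fun i => (hspan i).symm
    let b : Module.Basis (Fin t) F VV := Module.Basis.mk hli htop.ge
    have hb : ∀ i, b i = x i := fun i => Module.Basis.mk_apply hli htop.ge i
    have ht : t = m + m := by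
      have h := Module.finrank_eq_card_basis b
      rw [Module.finrank_pi, Fintype.card_sum, Fintype.card_fin, Fintype.card_fin] at h
      exact h.symm
    obtain ⟨p, hp⟩ : ∃ p, (AA).B (x i₀) (x p) ≠ 0 := by
      by_contra hc
      push Not at hc
      obtain ⟨y, hy⟩ := exists_pair_ne (hx0 i₀)
      refine hy ?_
      have : ((AA).B (x i₀)) = 0 := b.ext fun i => by rw [hb, hc, LinearMap.zero_apply]
      rw [this, LinearMap.zero_apply]
    have hp0 : p ≠ i₀ := fun h => hp (by rw [h, (AA).alt])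
    obtain ⟨a, ha⟩ : ∃ a : Fin t, a ∉ ({i₀, p} : Finset (Fin t)) := by
      by_contra hall
      push Not at hall
      have h := Finset.card_le_card (fun a _ => hall a : Finset.univ ⊆ _)
      rw [Finset.card_univ, Fintype.card_fin] at h
      exact absurd (h.trans Finset.card_le_two) (by omega)
    obtain ⟨c, hc⟩ : ∃ c : Fin t, c ∉ ({i₀, p, a} : Finset (Fin t)) := by
      by_contra hall
      push Not at hall
      have h := Finset.card_le_card (fun a _ => hall a : Finset.univ ⊆ _)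
      rw [Finset.card_univ, Fintype.card_fin] at h
      exact absurd (h.trans Finset.card_le_three) (by omega)
    simp only [Finset.mem_insert, Finset.mem_singleton, not_or] at ha hc
    obtain ⟨u, hu, r, hr0, hrp, hur, hup⟩ : ∃ u, (AA).B (x i₀) u ≠ 0 ∧ ∃ r, r ≠ i₀ ∧ r ≠ p ∧
        b.repr u r = 1 ∧ b.repr u p = 1 := by
      have e : ∀ i j, b.repr (x i) j = if i = j then 1 else 0 := fun i j => by
        rw [← hb, Module.Basis.repr_self, Finsupp.single_apply]
      by_cases h1 : (AA).B (x i₀) (x p + x a) = 0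
      · by_cases h2 : (AA).B (x i₀) (x p + x c) = 0
        · refine ⟨x p + x a + x c, ?_, a, ha.1, ha.2, ?_, ?_⟩
          · intro h3
            apply hp
            rw [map_add] at h1 h2
            rw [map_add, map_add] at h3
            linear_combination h1 + h2 - h3
          · simp [e, ha.2, Ne.symm ha.2, hc.2.2]
          · simp [e, ha.2, hc.2.1]
        · exact ⟨x p + x c, h2, c, hc.1, hc.2.1, by simp [e, Ne.symm hc.2.1], by simp [e, hc.2.1]⟩
      · exact ⟨x p + x a, h1, a, ha.1, ha.2, by simp [e, Ne.symm ha.2], by simp [e, ha.2]⟩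
    obtain ⟨σ, hσ⟩ := hle (trans_mem_sp u (1 : F))
    have hmem : x i₀ + (AA).B (x i₀) u • u ∈ D (σ i₀) := by
      rw [← hσ i₀]
      refine ⟨x i₀, hx i₀, ?_⟩
      rw [Matrix.toLin'_apply, AltForm.trans_mulVec, one_mul]
    rw [hspan, Submodule.mem_span_singleton] at hmem
    obtain ⟨s, hs⟩ := hmem
    have h1 := congrArg (fun v => b.repr v r) hs
    have h2 := congrArg (fun v => b.repr v p) hs
    simp only [map_add, map_smul, ← hb, Module.Basis.repr_self, Finsupp.add_apply, Finsupp.smul_apply,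
      Finsupp.single_apply, smul_eq_mul, hur, hup, Ne.symm hr0, Ne.symm hp0, if_false] at h1 h2
    rw [zero_add, mul_one, hb] at h1 h2
    by_cases hσr : σ i₀ = r
    · rw [if_neg (by rw [hσr]; exact hrp), mul_zero] at h2
      exact hu h2.symm
    · rw [if_neg hσr, mul_zero] at h1
      exact hu h1.symm
  · -- members of dimension at least two are fixed by every transvection
    obtain ⟨w, hw, hw0⟩ := (Submodule.ne_bot_iff _).mp (hne i₀)
    obtain ⟨u, hu, hwu⟩ := exists_out_ne (hnt i₀) hw0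
    obtain ⟨σ, hσ⟩ := hle (trans_mem_sp u (1 : F))
    have himg : ∀ v ∈ D i₀, v + (AA).B v u • u ∈ D (σ i₀) := fun v hv => by
      rw [← hσ i₀]
      refine ⟨v, hv, ?_⟩
      rw [Matrix.toLin'_apply, AltForm.trans_mulVec, one_mul]
    let φ : D i₀ →ₗ[F] F := ((AA).B.flip u).comp (D i₀).subtype
    have hker : LinearMap.ker φ ≠ ⊥ := by
      intro h
      have h2 := LinearMap.finrank_le_finrank_of_injective (LinearMap.ker_eq_bot.mp h)
      rw [hD.finrank_eq, Module.finrank_self] at h2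
      omega
    obtain ⟨z, hz, hz0⟩ := (Submodule.ne_bot_iff _).mp hker
    have hzu : (AA).B (z : VV) u = 0 := hz
    have hfix := himg z z.2
    rw [hzu, zero_smul, add_zero] at hfix
    have hσi : σ i₀ = i₀ := by
      by_contra hne'
      exact hz0 (Subtype.ext ((Submodule.mem_bot F).mp
        ((hdisj _ _ (Ne.symm hne')).le_bot ⟨z.2, hfix⟩)))
    have h := himg w hw
    rw [hσi, Submodule.add_mem_iff_right _ hw] at h
    exact hu ((Submodule.smul_mem_iff _ hwu).mp h)

theorem not_le_subalgebraNormalizer (hm : 2 ≤ m) {r : ℕ} (hr : 2 ≤ r) {K : Subalgebra F MM}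
    (hK : IsFieldSubalgebra r K) : ¬ SP ≤ subalgebraNormalizer K := by
  intro hle
  obtain ⟨k, hk, hknot⟩ : ∃ k ∈ K, ∀ a : F, k ≠ a • 1 := by
    by_contra hc
    push Not at hc
    have hsub : K.toSubmodule ≤ F ∙ (1 : MM) := fun k hk =>
      Submodule.mem_span_singleton.mpr (let ⟨a, ha⟩ := hc k hk; ⟨a, ha.symm⟩)
    have h2 := Submodule.finrank_mono hsub
    have hle1 : Module.finrank F (F ∙ (1 : MM)) ≤ 1 := by
      simpa using finrank_span_le_card (R := F) ({1} : Set MM)
    rw [Subalgebra.finrank_toSubmodule, hK.finrank_eq] at h2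
    omega
  have hzero : ∀ d ∈ K, ∀ z : VV, z ≠ 0 → d *ᵥ z = 0 → d = 0 := by
    intro d hd z hz hdz
    by_contra hd0
    obtain ⟨d', -, hdd'⟩ := hK.inv d hd hd0
    have hd'd : d' * d = 1 := mul_eq_one_comm.mp hdd'
    exact hz (by rw [← Matrix.one_mulVec z, ← hd'd, ← Matrix.mulVec_mulVec, hdz, Matrix.mulVec_zero])
  -- every vector is an eigenvector of `k`
  have heig : ∀ u : VV, u ≠ 0 → ∃ a : F, k *ᵥ u = a • u := by
    intro u hu
    set T := (AA).trans u (1 : F) with hT
    have hconj : (T : MM) * k * ((T⁻¹ : GG) : MM) - k ∈ K :=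
      K.sub_mem ((hle (trans_mem_sp u 1) k).mp hk) hk
    obtain ⟨z, hz, hz0⟩ : ∃ z ∈ LinearMap.ker
        (((AA).B.flip u).prod (((AA).B.flip u).comp (Matrix.toLin' k))), z ≠ 0 := by
      refine (Submodule.ne_bot_iff _).mp fun h => ?_
      have h2 := LinearMap.finrank_le_finrank_of_injective (LinearMap.ker_eq_bot.mp h)
      rw [Module.finrank_pi, Fintype.card_sum, Fintype.card_fin, Module.finrank_prod, Module.finrank_self] at h2
      omega
    rw [LinearMap.mem_ker, LinearMap.prod_apply, Prod.ext_iff] at hz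
    have hz1 : (AA).B z u = 0 := hz.1
    have hz2 : (AA).B (k *ᵥ z) u = 0 := hz.2
    have hTz : ((T⁻¹ : GG) : MM) *ᵥ z = z := by
      conv_lhs => arg 2; rw [show z = (T : MM) *ᵥ z by rw [hT, AltForm.trans_mulVec, hz1, mul_zero, zero_smul, add_zero]]
      rw [Matrix.mulVec_mulVec, ← Units.val_mul, inv_mul_cancel, Units.val_one, Matrix.one_mulVec]
    have hd0 := hzero _ hconj z hz0 (by
      rw [Matrix.sub_mulVec, ← Matrix.mulVec_mulVec, hTz, ← Matrix.mulVec_mulVec, hT, AltForm.trans_mulVec,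
        hz2, mul_zero, zero_smul, add_zero, sub_self])
    have hcomm : (T : MM) * k = k * T := by
      have h := congrArg (· * (T : MM)) (sub_eq_zero.mp hd0)
      simpa only [mul_assoc, ← Units.val_mul, inv_mul_cancel, Units.val_one, mul_one] using h
    obtain ⟨x, hx⟩ := exists_pair_ne hu
    have hxu : (AA).B x u ≠ 0 := fun h => hx (by rw [(AA).skew, h, neg_zero])
    have h := congrArg (fun M : MM => M *ᵥ x) hcomm
    simp only [← Matrix.mulVec_mulVec, hT, AltForm.trans_mulVec, one_mul, Matrix.mulVec_add,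
      Matrix.mulVec_smul] at h
    refine ⟨(AA).B (k *ᵥ x) u / (AA).B x u, ?_⟩
    rw [div_eq_inv_mul, mul_smul, add_left_cancel h, smul_smul, inv_mul_cancel₀ hxu, one_smul]
  let u₀ : VV := Pi.single (Sum.inl ⟨0, by omega⟩) 1
  have hu₀ : u₀ ≠ 0 := fun h => one_ne_zero (α := F) (Pi.single_eq_zero_iff.mp h)
  obtain ⟨a, ha⟩ := heig u₀ hu₀
  refine hknot a (sub_eq_zero.mp (hzero _ (K.sub_mem hk (K.smul_mem K.one_mem a)) u₀ hu₀ ?_))
  rw [Matrix.sub_mulVec, ha, Matrix.smul_mulVec, Matrix.one_mulVec, sub_self]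

theorem exists_kernel {k : ℕ} (hk : 2 ≤ k) (v : Fin k → F) : ∃ z : Fin k → F, z ≠ 0 ∧ v ⬝ᵥ z = 0 := by
  let i : Fin k := ⟨0, by omega⟩
  let j : Fin k := ⟨1, by omega⟩
  have hij : i ≠ j := Fin.ne_of_val_ne (by simp [i, j])
  by_cases h : v i = 0
  · exact ⟨Pi.single i 1, fun h' => one_ne_zero (α := F) (Pi.single_eq_zero_iff.mp h'), by simp [h]⟩
  · refine ⟨v j • Pi.single i 1 - v i • Pi.single j 1, fun h' => h ?_, by simp [mul_comm]⟩
    simpa [hij, hij.symm] using congrFun h' j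

theorem not_le_tensorProductSubgroup {d k : ℕ} (hd : 2 ≤ d) (hk : 2 ≤ k) (e : II ≃ Fin d × Fin k) (P : GG) :
    ¬ SP ≤ tensorProductSubgroup d k e P := by
  intro hle
  let i₀ : II := e.symm (⟨0, by omega⟩, ⟨0, by omega⟩)
  set w : VV := (P : MM) *ᵥ Pi.single i₀ 1 with hwdef
  have hw : w ≠ 0 := fun h => by
    have h2 := Matrix.mulVec_injective_iff_isUnit.mpr P.isUnit (h.trans (Matrix.mulVec_zero _).symm)
    exact one_ne_zero (α := F) (Pi.single_eq_zero_iff.mp h2)
  obtain ⟨g, hg, hgeq⟩ := hle (trans_mem_sp w (1 : F))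
  obtain ⟨h, ⟨a, b, hab⟩, rfl⟩ := hg
  -- in the tensor frame the transvection is `1 + U Vᵀ` with `V ⬝ U = 0`
  set Pi' : MM := ((P⁻¹ : GG) : MM) with hPi
  let U : Fin d × Fin k → F := fun p => (Pi' *ᵥ w) (e.symm p)
  let Vf : Fin d × Fin k → F := fun p => ((AA).psi w ᵥ* (P : MM)) (e.symm p)
  have hmat : Pi' * (((AA).trans w (1 : F) : GG) : MM) * (P : MM) =
      1 + Matrix.vecMulVec (Pi' *ᵥ w) ((AA).psi w ᵥ* (P : MM)) := by
    refine MaxSub.eq_of_mulVec_eq fun x => ?_
    rw [← Matrix.mulVec_mulVec, ← Matrix.mulVec_mulVec, AltForm.trans_mulVec, one_mul, Matrix.mulVec_add,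
      Matrix.mulVec_smul, Matrix.mulVec_mulVec, hPi, ← Units.val_mul, inv_mul_cancel, Units.val_one,
      Matrix.one_mulVec, Matrix.add_mulVec, Matrix.one_mulVec, Matrix.vecMulVec_mulVec, op_smul_eq_smul,
      ← Matrix.dotProduct_mulVec, AltForm.psi_dot]
  have hent : ∀ p q, (a : Matrix (Fin d) (Fin d) F) p.1 q.1 * (b : Matrix (Fin k) (Fin k) F) p.2 q.2 =
      (if p = q then 1 else 0) + U p * Vf q := by
    intro p q
    have h1 : (h : Matrix (Fin d × Fin k) (Fin d × Fin k) F) p q =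
        (Pi' * (((AA).trans w (1 : F) : GG) : MM) * (P : MM)) (e.symm p) (e.symm q) := by
      rw [← hgeq]
      simp only [MulEquiv.coe_toMonoidHom, MulAut.conj_apply, Units.val_mul]
      simp only [hPi, ← mul_assoc, ← Units.val_mul, inv_mul_cancel, one_mul]
      simp only [mul_assoc, ← Units.val_mul, inv_mul_cancel, mul_one]
      simp [glReindex]
    rw [hab, hmat, Matrix.kronecker_apply, Matrix.add_apply, Matrix.one_apply, Matrix.vecMulVec_apply] at h1
    simpa only [EmbeddingLike.apply_eq_iff_eq, U, Vf] using h1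
  have hVU : ∑ p, Vf p * U p = 0 := by
    rw [Equiv.sum_comp e.symm (fun i => ((AA).psi w ᵥ* (P : MM)) i * (Pi' *ᵥ w) i)]
    show ((AA).psi w ᵥ* (P : MM)) ⬝ᵥ (Pi' *ᵥ w) = 0
    rw [← Matrix.dotProduct_mulVec, Matrix.mulVec_mulVec, hPi, ← Units.val_mul, mul_inv_cancel, Units.val_one,
      Matrix.one_mulVec, AltForm.psi_dot, (AA).alt]
  have hoff : ∀ i i', i ≠ i' → (a : Matrix (Fin d) (Fin d) F) i i' = 0 := by
    intro i i' hii
    by_contra h0
    obtain ⟨z, hz0, hz⟩ := exists_kernel hk fun j' => Vf (i', j')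
    refine hz0 (Matrix.mulVec_injective_iff_isUnit.mpr b.isUnit ?_)
    rw [Matrix.mulVec_zero]
    funext j
    refine mul_left_cancel₀ h0 ?_
    rw [Pi.zero_apply, mul_zero, Matrix.mulVec, dotProduct, Finset.mul_sum]
    calc ∑ j', (a : Matrix (Fin d) (Fin d) F) i i' * ((b : Matrix (Fin k) (Fin k) F) j j' * z j')
        = ∑ j', U (i, j) * (Vf (i', j') * z j') := Finset.sum_congr rfl fun j' _ => by
          rw [← mul_assoc, hent (i, j) (i', j'), if_neg (by simp [hii]), zero_add, mul_assoc]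
      _ = 0 := by rw [← Finset.mul_sum]; exact mul_eq_zero_of_right _ hz
  have hoff' : ∀ j j', j ≠ j' → (b : Matrix (Fin k) (Fin k) F) j j' = 0 := by
    intro j j' hjj
    by_contra h0
    obtain ⟨z, hz0, hz⟩ := exists_kernel hd fun i' => Vf (i', j')
    refine hz0 (Matrix.mulVec_injective_iff_isUnit.mpr a.isUnit ?_)
    rw [Matrix.mulVec_zero]
    funext i
    refine mul_right_cancel₀ h0 ?_
    rw [Pi.zero_apply, zero_mul, Matrix.mulVec, dotProduct, Finset.sum_mul]
    calc ∑ i', (a : Matrix (Fin d) (Fin d) F) i i' * z i' * (b : Matrix (Fin k) (Fin k) F) j j'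
        = ∑ i', U (i, j) * (Vf (i', j') * z i') := Finset.sum_congr rfl fun i' _ => by
          rw [mul_right_comm, hent (i, j) (i', j'), if_neg (by simp [hjj]), zero_add, mul_assoc]
      _ = 0 := by rw [← Finset.mul_sum]; exact mul_eq_zero_of_right _ hz
  have hdiag : ∀ p q, p ≠ q → U p * Vf q = 0 := by
    intro p q hpq
    have h1 := hent p q
    rw [if_neg hpq, zero_add] at h1
    rw [← h1]
    by_cases h2 : p.1 = q.1
    · rw [hoff' _ _ fun h3 => hpq (Prod.ext h2 h3), mul_zero]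
    · rw [hoff _ _ h2, zero_mul]
  obtain ⟨x, hx⟩ := exists_pair_ne hw
  obtain ⟨p, hp⟩ : ∃ p, U p ≠ 0 := by
    by_contra hc
    push Not at hc
    refine hw ?_
    have h2 : Pi' *ᵥ w = 0 := funext fun i => by simpa [U] using hc (e i)
    simpa [hPi, Matrix.mulVec_mulVec, ← Units.val_mul] using congrArg ((P : MM) *ᵥ ·) h2
  have hVq : ∀ q, q ≠ p → Vf q = 0 := fun q hq => (mul_eq_zero.mp (hdiag p q hq.symm)).resolve_left hp
  rw [Fintype.sum_eq_single p fun q hq => by rw [hVq q hq, zero_mul]] at hVU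
  have hVall : ∀ q, Vf q = 0 := fun q => by
    by_cases hq : q = p
    · subst hq; exact (mul_eq_zero.mp hVU).resolve_right hp
    · exact hVq q hq
  have hV0 : (AA).psi w ᵥ* (P : MM) = 0 := funext fun i => by simpa [Vf] using hVall (e i)
  have : (AA).psi w = 0 := by
    simpa [Matrix.vecMul_vecMul, ← Units.val_mul] using congrArg (· ᵥ* ((P⁻¹ : GG) : MM)) hV0
  exact hw ((AA).psi_injective (a₂ := 0) (this.trans (map_zero (AA).psiL).symm))

theorem not_le_subfieldSubgroup (hm : 1 ≤ m) {F₀ : Subfield F} (h0 : F₀ ≠ ⊤) (P : GG) :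
    ¬ SP ≤ subfieldSubgroup F₀ P := by
  intro hle
  obtain ⟨s, hs⟩ : ∃ s : F, s ∉ F₀ := by
    by_contra hc
    push Not at hc
    exact h0 (eq_top_iff.mpr fun x _ => hc x)
  let e : II → VV := fun i => (P : MM) *ᵥ Pi.single i 1
  have he : ∀ i, RatVec F₀ P (e i) := fun i => (ratVec_mulVec _).mpr fun l => by
    rw [Pi.single_apply]; split_ifs; exacts [F₀.one_mem, F₀.zero_mem]
  let i₀ : II := Sum.inl ⟨0, hm⟩
  set w := e i₀ with hwdef
  have hw : w ≠ 0 := fun h => by
    have h2 := Matrix.mulVec_injective_iff_isUnit.mpr P.isUnit (h.trans (Matrix.mulVec_zero _).symm)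
    exact one_ne_zero (α := F) (Pi.single_eq_zero_iff.mp h2)
  obtain ⟨i, hi⟩ : ∃ i, (AA).B (e i) w ≠ 0 := by
    by_contra hc
    push Not at hc
    refine hw ((AA).nondeg w fun x => ?_)
    have hx : x = (P : MM) *ᵥ (((P⁻¹ : GG) : MM) *ᵥ x) := by
      rw [Matrix.mulVec_mulVec, ← Units.val_mul, mul_inv_cancel, Units.val_one, Matrix.one_mulVec]
    rw [hx, pi_eq_sum_univ' (((P⁻¹ : GG) : MM) *ᵥ x), Matrix.mulVec_sum, map_sum, LinearMap.sum_apply]
    refine Finset.sum_eq_zero fun j _ => ?_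
    rw [Matrix.mulVec_smul, map_smul, LinearMap.smul_apply, show (P : MM) *ᵥ Pi.single j 1 = e j from rfl,
      hc, smul_zero]
  obtain ⟨c, hc0, hc⟩ := subfieldSubgroup_apply (hle (trans_mem_sp w (s / (AA).B (e i) w)))
  obtain ⟨y, hy, hy'⟩ := hc w (he i₀)
  rw [AltForm.trans_mulVec, (AA).alt, mul_zero, zero_smul, add_zero] at hy'
  have hc1 : c⁻¹ ∈ F₀ := (he i₀).coeff_mem hw (by
    rw [show e i₀ = c • y from hy', smul_smul, inv_mul_cancel₀ hc0, one_smul]; exact hy)
  have hcF : c ∈ F₀ := by simpa using F₀.inv_mem hc1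
  obtain ⟨z, hz, hz'⟩ := hc (e i) (he i)
  rw [AltForm.trans_mulVec, div_mul_cancel₀ _ hi] at hz'
  have h2 : RatVec F₀ P (s • w) := by
    rw [show s • w = c • z - e i by rw [← hz', add_sub_cancel_left]]
    exact (hz.smul hcF).sub (he i)
  exact hs ((he i₀).coeff_mem hw h2)

theorem not_le_quadSimilarityGroup [Fintype F] (hm : 2 ≤ m) {Q : VV → F}
    (hQ : IsNondegenerateQuadraticForm Q)
    (hpol : ∀ u v : VV, QuadraticMap.polar Q u v = ff u v) : ¬ SP ≤ quadSimilarityGroup Q := by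
  intro hle
  have hadd : ∀ u v, Q (u + v) = Q u + Q v + (AA).B u v := fun u v => by
    rw [stdAlt_apply, ← hpol]; unfold QuadraticMap.polar; ring
  have hstep : ∀ (w : VV) (t : F), w ≠ 0 → t ≠ 0 → t * Q w + 1 ≠ 0 →
      (∀ c : Fˣ, (c : F) * Q w = Q w → (c : F) = 1) → False := by
    intro w t hw ht htQ hc1
    obtain ⟨c, hc⟩ := hle (trans_mem_sp w t)
    have hcw := hc w
    rw [AltForm.trans_mulVec, (AA).alt, mul_zero, zero_smul, add_zero] at hcw
    obtain ⟨x, hx⟩ := exists_pair_ne hw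
    have hxw : (AA).B x w ≠ 0 := fun h => hx (by rw [(AA).skew, h, neg_zero])
    have hcx := hc x
    rw [AltForm.trans_mulVec, hc1 c hcw.symm, one_mul, hadd, hQ.smul, map_smul, smul_eq_mul] at hcx
    have h0 : (t * (AA).B x w) * (AA).B x w * (t * Q w + 1) = 0 := by linear_combination hcx
    exact mul_ne_zero (mul_ne_zero (mul_ne_zero ht hxw) hxw) htQ h0
  have hunit : ∀ {w : VV}, Q w ≠ 0 → ∀ c : Fˣ, (c : F) * Q w = Q w → (c : F) = 1 :=
    fun hw c h => mul_right_cancel₀ hw (by rw [h, one_mul])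
  by_cases h3 : ∃ t : F, t ≠ 0 ∧ t ≠ 1
  · obtain ⟨t, ht0, ht1⟩ := h3
    obtain ⟨v, hv⟩ : ∃ v, Q v ≠ 0 := by
      by_contra hc
      push Not at hc
      let u₀ : VV := Pi.single (Sum.inl ⟨0, by omega⟩) 1
      obtain ⟨y, hy⟩ := exists_pair_ne (w := u₀) fun h => one_ne_zero (α := F) (Pi.single_eq_zero_iff.mp h)
      exact hy (by have h := hadd u₀ y; rw [hc, hc, hc] at h; linear_combination -h)
    have hv0 : v ≠ 0 := fun h => hv (by simpa [h] using hQ.smul 0 0)
    by_cases h1 : (1 : F) * Q v + 1 = 0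
    · refine hstep v t hv0 ht0 (fun h => ht1 ?_) (hunit hv)
      exact mul_right_cancel₀ hv (by linear_combination h - h1)
    · exact hstep v 1 hv0 one_ne_zero h1 (hunit hv)
  · push Not at h3
    have hc1 : ∀ c : Fˣ, (c : F) = 1 := fun c => h3 c c.ne_zero
    suffices ∃ w : VV, w ≠ 0 ∧ Q w = 0 by
      obtain ⟨w, hw, hw0⟩ := this
      exact hstep w 1 hw one_ne_zero (by rw [hw0, mul_zero, zero_add]; exact one_ne_zero) fun c _ => hc1 c
    let a : VV := Pi.single (Sum.inl ⟨0, by omega⟩) 1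
    have ha : a ≠ 0 := fun h => one_ne_zero (α := F) (Pi.single_eq_zero_iff.mp h)
    by_cases hQa : Q a = 0
    · exact ⟨a, ha, hQa⟩
    obtain ⟨b, hb, hba⟩ : ∃ b, (AA).B a b = 0 ∧ b ∉ F ∙ a := by
      by_contra hc
      push Not at hc
      have hker : LinearMap.ker ((AA).B a) ≤ F ∙ a := fun x hx => hc x hx
      have h1 := Submodule.finrank_mono hker
      have h2 := LinearMap.finrank_range_add_finrank_ker ((AA).B a)
      have h4 := Submodule.finrank_le (LinearMap.range ((AA).B a))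
      rw [Module.finrank_self] at h4
      rw [finrank_span_singleton ha] at h1
      rw [Module.finrank_pi, Fintype.card_sum, Fintype.card_fin] at h2
      omega
    have hb0 : b ≠ 0 := fun h => hba (h ▸ Submodule.zero_mem _)
    by_cases hQb : Q b = 0
    · exact ⟨b, hb0, hQb⟩
    refine ⟨a + b, fun h => hba ?_, ?_⟩
    · rw [eq_neg_of_add_eq_zero_right h]; exact Submodule.neg_mem _ (Submodule.mem_span_singleton_self a)
    · have h11 : (1 : F) + 1 = 0 := by
        by_contra h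
        exact one_ne_zero (α := F) (by linear_combination (h3 (1 + 1) h))
      rw [hadd, hb, add_zero, h3 _ hQa, h3 _ hQb, h11]

theorem sp_perfect [Fintype F] (hm : 2 ≤ m) (h : m = 2 → 3 ≤ Fintype.card F) : ⁅SP, SP⁆ = SP := by
  let f := (Matrix.symplecticGroup (Fin m) F).subtype.toHomUnits
  have hrange : f.range = SP := by
    ext g
    constructor
    · rintro ⟨s, rfl⟩
      exact (Cfsg.Agent.Lib.Geometry.mem_symplecticGroup_iff_form.mp s.2 : _)
    · intro hg
      exact ⟨⟨(g : MM), Cfsg.Agent.Lib.Geometry.mem_symplecticGroup_iff_form.mpr hg⟩, Units.ext rfl⟩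
  rw [← hrange, MonoidHom.range_eq_map, ← Subgroup.map_commutator]
  exact congrArg _ (Cfsg.Agent.Lib.Classical.commutator_sp_eq_top
    (Cfsg.Agent.Lib.Classical.sp_perfect_cond_of_card (by
      rcases hm.eq_or_lt with rfl | hm'
      · exact Or.inr (Or.inl ⟨rfl, h rfl⟩)
      · exact Or.inl hm')))

theorem scalars_inf_le [Fintype F] (hm : 2 ≤ m) (h : m = 2 → 3 ≤ Fintype.card F) {H : Subgroup GG}
    (hH : IsMaximalIn SP H) : ZZ ⊓ SP ≤ H := by
  have hc : ∀ z ∈ ZZ, ∀ g : GG, g * z = z * g := by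
    intro z hz g
    obtain ⟨c, hc⟩ := (mem_scalars_iff z).mp hz
    exact Units.ext (by rw [Units.val_mul, Units.val_mul, hc]; simp)
  have hnorm : H ≤ Subgroup.normalizer ((ZZ ⊓ SP : Subgroup GG) : Set GG) := fun g _ =>
    Subgroup.mem_normalizer_iff.mpr fun z => by
      constructor
      · intro hz
        rwa [hc z hz.1 g, mul_inv_cancel_right]
      · intro hz
        have h1 := hc _ hz.1 g⁻¹
        rw [show g⁻¹ * (g * z * g⁻¹) = z * g⁻¹ by group] at h1
        exact mul_right_cancel h1 ▸ hz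
  rcases hH.2 (H ⊔ (ZZ ⊓ SP)) le_sup_left (sup_le hH.1.le inf_le_right) with h' | h'
  · exact le_sup_right.trans h'.le
  · exfalso
    refine hH.1.ne (le_antisymm hH.1.le ?_)
    conv_lhs => rw [← sp_perfect hm h, ← h']
    refine Subgroup.commutator_le.mpr fun a ha b hb => ?_
    rw [← SetLike.mem_coe, Subgroup.coe_mul_of_left_le_normalizer_right H (ZZ ⊓ SP) hnorm] at ha hb
    obtain ⟨x, hx, z, hz, rfl⟩ := ha
    obtain ⟨y, hy, w, hw, rfl⟩ := hb
    have h1 := hc z hz.1
    have h2 := hc w hw.1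
    have hxy : ⁅x * z, y * w⁆ = ⁅x, y⁆ := by
      calc ⁅x * z, y * w⁆ = x * (z * (y * w * z⁻¹)) * x⁻¹ * w⁻¹ * y⁻¹ := by rw [commutatorElement_def]; group
        _ = x * ((y * w * z⁻¹) * z) * x⁻¹ * w⁻¹ * y⁻¹ := by rw [h1]
        _ = x * y * (w * x⁻¹) * w⁻¹ * y⁻¹ := by group
        _ = x * y * (x⁻¹ * w) * w⁻¹ * y⁻¹ := by rw [h2]
        _ = ⁅x, y⁆ := by rw [commutatorElement_def]; group
    show ⁅x * z, y * w⁆ ∈ H
    rw [hxy, commutatorElement_def]
    exact H.mul_mem (H.mul_mem (H.mul_mem hx hy) (H.inv_mem hx)) (H.inv_mem hy)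

end Cfsg.Agent.Lib.SympTwoPrime
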