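import Cfsg.Agent.Lib.SympTwoPrime.Kron
import Cfsg.Agent.Lib.SympTwoPrime.Forms
import Cfsg.Agent.Lib.SympTwoPrime.Proper
import Cfsg.Agent.Lib.PrimeDim.FormDescent

/-!
A maximal subgroup of the symplectic group in dimension twice an odd prime with a homogeneous normal subgroup
preserves a tensor decomposition, an invariant plane, or a frame of planes.
-/

set_option autoImplicit false

namespace Cfsg.Agent.Lib.SympTwoPrime

open Matrix Cfsg.Geo
open Cfsg.Agent.Lib
open Cfsg.Agent.Lib.MaxTensor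
open scoped MatrixGroups Matrix Kronecker

variable {m : ℕ} {F : Type*} [Field F]

local notation "II" => (Fin m ⊕ Fin m)
local notation "VV" => (Fin m ⊕ Fin m → F)
local notation "GG" => Matrix.GeneralLinearGroup (Fin m ⊕ Fin m) F
local notation "ff" => Cfsg.sympForm m F
local notation "SP" => Cfsg.spGL m F
local notation "BB" => Cfsg.Agent.Lib.MaxSub.AltForm.B (Cfsg.Agent.Lib.MaxSub.stdAlt m F)

/-- A tensor frame in which the form is the product of an alternating and a symmetric form. -/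
structure TensorData (H : Subgroup GG) where
  L : ((Fin 2 × Fin m) → F) ≃ₗ[F] VV
  a : F
  ha : a ≠ 0
  G : Matrix (Fin m) (Fin m) F
  hG : IsUnit G
  hsym : Gᵀ = G
  form : ∀ x y, BB (L x) (L y) =
    a * ((fun j => x (0, j)) ⬝ᵥ G *ᵥ (fun j => y (1, j)) - (fun j => x (1, j)) ⬝ᵥ G *ᵥ (fun j => y (0, j)))
  act : ∀ h ∈ H, ∃ (C : GL (Fin 2) F) (D : GL (Fin m) F), ∀ x, (h : Matrix II II F) *ᵥ L x =
    L (((C : Matrix (Fin 2) (Fin 2) F) ⊗ₖ (D : Matrix (Fin m) (Fin m) F)) *ᵥ x)

/-- The pure tensor. -/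
def tens (t : Fin m → F) : (Fin 2 → F) →ₗ[F] (Fin 2 × Fin m → F) where
  toFun u p := u p.1 * t p.2
  map_add' u u' := by funext p; simp [add_mul]
  map_smul' c u := by funext p; simp [mul_assoc]

theorem tens_injective {t : Fin m → F} (ht : t ≠ 0) : Function.Injective (tens t) := by
  intro u u' h
  obtain ⟨j, hj⟩ : ∃ j, t j ≠ 0 := Function.ne_iff.1 ht
  funext r
  exact mul_right_cancel₀ hj (congrFun h (r, j))

theorem kron_mulVec_row (C : Matrix (Fin 2) (Fin 2) F) (D : Matrix (Fin m) (Fin m) F) (x : Fin 2 × Fin m → F)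
    (r : Fin 2) :
    (fun j => ((C ⊗ₖ D) *ᵥ x) (r, j)) = C r 0 • D *ᵥ (fun j => x (0, j)) + C r 1 • D *ᵥ (fun j => x (1, j)) := by
  funext j
  simp only [Matrix.mulVec, dotProduct, Fintype.sum_prod_type, Fin.sum_univ_two, Matrix.kroneckerMap_apply,
    Pi.add_apply, Pi.smul_apply, smul_eq_mul, Finset.mul_sum, mul_assoc]

theorem kron_tens (C : Matrix (Fin 2) (Fin 2) F) (D : Matrix (Fin m) (Fin m) F) (t : Fin m → F) (u : Fin 2 → F) :
    (C ⊗ₖ D) *ᵥ tens t u = tens (D *ᵥ t) (C *ᵥ u) := by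
  funext p
  show ∑ q, (C ⊗ₖ D) p q * (u q.1 * t q.2) = (∑ s, C p.1 s * u s) * ∑ l, D p.2 l * t l
  rw [Fintype.sum_prod_type, Finset.sum_mul_sum]
  refine Finset.sum_congr rfl fun s _ => Finset.sum_congr rfl fun l _ => ?_
  rw [Matrix.kroneckerMap_apply]; ring

theorem tens_smul (ρ : F) (t : Fin m → F) (u : Fin 2 → F) : tens (ρ • t) u = tens t (ρ • u) := by
  funext p
  show u p.1 * (ρ * t p.2) = ρ * u p.1 * t p.2
  ring

namespace TensorData

variable {H : Subgroup (Matrix.GeneralLinearGroup (Fin m ⊕ Fin m) F)} (T : TensorData H)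

include T

theorem form_tens (t t' : Fin m → F) (u u' : Fin 2 → F) :
    BB (T.L (tens t u)) (T.L (tens t' u')) = T.a * ((u 0 * u' 1 - u 1 * u' 0) * (t ⬝ᵥ T.G *ᵥ t')) := by
  rw [T.form]
  have e : ∀ (t : Fin m → F) (u : Fin 2 → F) r, (fun j => tens t u (r, j)) = u r • t := fun _ _ _ => rfl
  simp only [e, Matrix.mulVec_smul, smul_dotProduct, dotProduct_smul, smul_eq_mul]
  ring

/-- The right factor is a similarity of the symmetric form. -/
theorem act_form (hH : H ≤ SP) {h : GG} (hh : h ∈ H) : ∃ (C : GL (Fin 2) F) (D : GL (Fin m) F),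
    (∀ x, (h : Matrix II II F) *ᵥ T.L x =
      T.L (((C : Matrix (Fin 2) (Fin 2) F) ⊗ₖ (D : Matrix (Fin m) (Fin m) F)) *ᵥ x)) ∧
    ∀ v w, (C : Matrix (Fin 2) (Fin 2) F).det *
      (((D : Matrix (Fin m) (Fin m) F) *ᵥ v) ⬝ᵥ T.G *ᵥ ((D : Matrix (Fin m) (Fin m) F) *ᵥ w)) = v ⬝ᵥ T.G *ᵥ w := by
  obtain ⟨C, D, hCD⟩ := T.act h hh
  refine ⟨C, D, hCD, fun v w => ?_⟩
  have hp := MaxSub.mem_spGL_iff.1 (hH hh) (T.L (tens v ![1, 0])) (T.L (tens w ![0, 1]))
  rw [hCD, hCD, kron_tens, kron_tens, T.form_tens, T.form_tens] at hp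
  simp only [Matrix.mulVec, dotProduct, Fin.sum_univ_two, Matrix.cons_val_zero, Matrix.cons_val_one] at hp
  rw [Matrix.det_fin_two]
  refine mul_left_cancel₀ T.ha ?_
  simp only [Matrix.mulVec, dotProduct]
  linear_combination hp

/-- The plane attached to a vector of the right factor. -/
def plane (t : Fin m → F) : Submodule F VV := LinearMap.range (T.L.toLinearMap ∘ₗ tens t)

theorem finrank_plane {t : Fin m → F} (ht : t ≠ 0) : Module.finrank F (T.plane t) = 2 := by
  rw [plane, LinearMap.finrank_range_of_inj (f := T.L.toLinearMap ∘ₗ tens t) (T.L.injective.comp (tens_injective ht)),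
    Module.finrank_fintype_fun_eq_card, Fintype.card_fin]

theorem plane_ts {t : Fin m → F} (ht : t ⬝ᵥ T.G *ᵥ t = 0) : IsTotallySingularFor ff (T.plane t) := by
  rintro _ ⟨u, rfl⟩ _ ⟨u', rfl⟩
  rw [← MaxSub.stdAlt_apply]
  show BB (T.L (tens t u)) (T.L (tens t u')) = 0
  rw [T.form_tens, ht, mul_zero, mul_zero]

theorem plane_nd {t : Fin m → F} (ht : t ⬝ᵥ T.G *ᵥ t ≠ 0) : IsNondegenerateOn ff (T.plane t) := by
  rintro _ ⟨u, rfl⟩ hw
  have hu : u ≠ 0 := fun h => hw (by rw [h, map_zero])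
  obtain ⟨u', hu'⟩ : ∃ u' : Fin 2 → F, u 0 * u' 1 - u 1 * u' 0 ≠ 0 := by
    by_contra hc
    simp only [not_exists, not_not] at hc
    apply hu
    funext i
    fin_cases i
    · simpa using hc ![0, 1]
    · simpa using hc ![1, 0]
  have h1 : ff (T.L (tens t u)) (T.L (tens t u')) ≠ 0 := by
    rw [← MaxSub.stdAlt_apply, T.form_tens]
    exact mul_ne_zero T.ha (mul_ne_zero hu' ht)
  refine ⟨⟨_, ⟨u', rfl⟩, ?_⟩, _, ⟨u', rfl⟩, h1⟩
  rw [sympSkew]
  exact neg_ne_zero.2 h1

theorem map_plane {h : GG} {C : GL (Fin 2) F} {D : GL (Fin m) F}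
    (hCD : ∀ x, (h : Matrix II II F) *ᵥ T.L x =
      T.L (((C : Matrix (Fin 2) (Fin 2) F) ⊗ₖ (D : Matrix (Fin m) (Fin m) F)) *ᵥ x))
    {t t' : Fin m → F} (ht : t ≠ 0) (ht' : t' ≠ 0) {ρ : F}
    (hD : (D : Matrix (Fin m) (Fin m) F) *ᵥ t = ρ • t') :
    (T.plane t).map (Matrix.toLin' (h : Matrix II II F)) = T.plane t' := by
  refine Submodule.eq_of_le_of_finrank_eq ?_ ?_
  · rintro _ ⟨_, ⟨u, rfl⟩, rfl⟩
    refine ⟨ρ • ((C : Matrix (Fin 2) (Fin 2) F) *ᵥ u), ?_⟩
    show T.L (tens t' _) = Matrix.toLin' (h : Matrix II II F) (T.L (tens t u))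
    rw [Matrix.toLin'_apply, hCD, kron_tens, hD, tens_smul]
  · have hinj : Function.Injective (Matrix.toLin' (h : Matrix II II F)) := fun x y hxy => by
      have := congrArg (fun z => ((h⁻¹ : GG) : Matrix II II F) *ᵥ z) hxy
      simpa [Matrix.toLin'_apply, Matrix.mulVec_mulVec] using this
    rw [← (Submodule.equivMapOfInjective _ hinj (T.plane t)).finrank_eq, T.finrank_plane ht, T.finrank_plane ht']

/-- In characteristic two the group fixes a plane. -/
theorem case_char_two [Fintype F] (hm : Odd m) (hm3 : 3 ≤ m) (hH : IsMaximalIn SP H) (h2 : (2 : F) = 0) :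
    Cases H := by
  classical
  haveI : CharP F 2 := CharTwo.of_one_ne_zero_of_two_eq_zero one_ne_zero h2
  haveI : ExpChar F 2 := ExpChar.prime Nat.prime_two
  haveI : PerfectRing F 2 := PerfectRing.ofFiniteOfIsReduced 2 F
  have hsq : ∀ x y : F, x ^ 2 = y ^ 2 → x = y := fun x y h => (frobenius_inj F 2) h
  let w : Fin m → F := fun i => (frobeniusEquiv F 2).symm (T.G i i)
  have hr : ∀ i, w i ^ 2 = T.G i i := fun i => frobeniusEquiv_symm_pow_p F 2 _
  have hw : w ≠ 0 := by
    intro h0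
    exact ((Matrix.isUnit_iff_isUnit_det _).1 T.hG).ne_zero (PrimeDim.FormDescent.det_alt_char_two h2
      (by simpa using hm) T.G T.hsym fun i => by rw [← hr, h0]; simp)
  have hdiag : ∀ v : Fin m → F, v ⬝ᵥ T.G *ᵥ v = (w ⬝ᵥ v) ^ 2 := by
    intro v
    simp only [dotProduct, Matrix.mulVec, Finset.mul_sum]
    rw [CharTwo.sum_sq, PrimeDim.FormDescent.sum_sym_diag h2 fun k l => by
      rw [show T.G l k = T.G k l by rw [← congrFun (congrFun T.hsym k) l, Matrix.transpose_apply]]; ring]
    refine Finset.sum_congr rfl fun k _ => ?_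
    rw [mul_pow, hr]; ring
  obtain ⟨U, hU⟩ := T.hG
  set z : Fin m → F := (↑U⁻¹ : Matrix (Fin m) (Fin m) F) *ᵥ w with hz
  have hGz : T.G *ᵥ z = w := by rw [hz, Matrix.mulVec_mulVec, ← hU, Units.mul_inv, Matrix.one_mulVec]
  have hz0 : z ≠ 0 := fun h => hw (by rw [← hGz, h, Matrix.mulVec_zero])
  have hle : H ≤ subspaceStabilizer (T.plane z) := by
    intro h hh
    have key : ∀ h ∈ H, (T.plane z).map (Matrix.toLin' ((h : GG) : Matrix II II F)) = T.plane z := by
      intro h hh
      obtain ⟨C, D, hCD, hD⟩ := T.act_form hH.1.le hh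
      set c := (C : Matrix (Fin 2) (Fin 2) F).det
      have hc : c ≠ 0 := ((Matrix.isUnit_iff_isUnit_det _).1 C.isUnit).ne_zero
      set ν : F := (frobeniusEquiv F 2).symm c⁻¹
      have hν : ν ^ 2 = c⁻¹ := frobeniusEquiv_symm_pow_p F 2 _
      have hwD : ∀ v, w ⬝ᵥ ((D : Matrix (Fin m) (Fin m) F) *ᵥ v) = ν * (w ⬝ᵥ v) := fun v => by
        apply hsq
        rw [mul_pow, hν, ← hdiag, ← hdiag]
        have := hD v v
        field_simp
        linear_combination this
      have hν0 : ν ≠ 0 := by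
        intro h0; rw [h0] at hν; exact inv_ne_zero hc (by rw [← hν]; simp)
      refine T.map_plane hCD hz0 hz0 (ρ := ν) ?_
      have hall : T.G *ᵥ ((D : Matrix (Fin m) (Fin m) F) *ᵥ z) = ν • w := by
        refine dotProduct_eq _ _ fun y => ?_
        obtain ⟨v, rfl⟩ : ∃ v, (D : Matrix (Fin m) (Fin m) F) *ᵥ v = y :=
          ⟨((D⁻¹ : GL (Fin m) F) : Matrix (Fin m) (Fin m) F) *ᵥ y, by
            rw [Matrix.mulVec_mulVec, Units.mul_inv, Matrix.one_mulVec]⟩
        have := hD v z
        rw [hGz, dotProduct_comm v w] at this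
        rw [smul_dotProduct, smul_eq_mul, hwD, dotProduct_comm]
        refine mul_left_cancel₀ hc ?_
        rw [this]
        linear_combination (-(c * (w ⬝ᵥ v))) * hν - (mul_inv_cancel₀ hc) * (w ⬝ᵥ v)
      have := congrArg (fun x => (↑U⁻¹ : Matrix (Fin m) (Fin m) F) *ᵥ x) hall
      simp only [← hU, Matrix.mulVec_mulVec, Units.inv_mul_cancel_left, Matrix.mulVec_smul] at this
      exact this
    intro v
    constructor
    · intro hv
      exact (key h hh).le ⟨v, hv, rfl⟩
    · intro hv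
      obtain ⟨v', hv', e⟩ := (key h hh).ge hv
      have : v' = v := Matrix.mulVec_injective_iff_isUnit.2 h.isUnit (by rw [Matrix.toLin'_apply] at e; exact e)
      exact this ▸ hv'
  have hW := T.finrank_plane hz0
  have h0 : T.plane z ≠ ⊥ := fun h => by rw [h, finrank_bot] at hW; omega
  have h1 : T.plane z ≠ ⊤ := fun h => by
    rw [h, finrank_top, Module.finrank_fintype_fun_eq_card, Fintype.card_sum, Fintype.card_fin] at hW
    omega
  have heq := eq_inf_of_le hH hle (not_le_subspaceStabilizer h0 h1)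
  by_cases hzz : z ⬝ᵥ T.G *ᵥ z = 0
  · exact Or.inl ⟨_, h0, T.plane_ts hzz, heq⟩
  · exact Or.inr (Or.inl ⟨_, h0, T.plane_nd hzz, by omega, heq⟩)

theorem case_tensor [Fintype F] (hm3 : 3 ≤ m) (hH : IsMaximalIn SP H) (hodd : Odd (Fintype.card F))
    (h5 : m = 3 → 5 ≤ Fintype.card F) : Cases H := by
  obtain ⟨e, P, hP, hmem⟩ := exists_tensor_frame T.L
  let f₁ : (Fin 2 → F) → (Fin 2 → F) → F := fun u v => T.a * (u 0 * v 1 - u 1 * v 0)
  let f₂ : (Fin m → F) → (Fin m → F) → F := fun v w => v ⬝ᵥ T.G *ᵥ w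
  have g₁ : gramMatrix f₁ = !![0, T.a; -T.a, 0] := by
    ext i j
    fin_cases i <;> fin_cases j <;> simp [gramMatrix, f₁]
  have g₂ : gramMatrix f₂ = T.G := by
    ext i j
    simp [gramMatrix, f₂, Matrix.mulVec_single_one]
  have h₁ : IsSymplecticForm f₁ := by
    refine ⟨⟨?_, ?_, ?_, ?_⟩, fun v w => by simp only [f₁]; ring, fun v => by simp only [f₁]; ring, ?_⟩
    any_goals intro x y z; simp only [f₁, Pi.add_apply, Pi.smul_apply, smul_eq_mul]; ring
    intro v hv
    obtain ⟨i, hi⟩ := Function.ne_iff.1 hv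
    fin_cases i
    · exact ⟨⟨![0, 1], by simpa [f₁, T.ha] using hi⟩, ![0, 1], by simpa [f₁, T.ha] using hi⟩
    · exact ⟨⟨![1, 0], by simpa [f₁, T.ha] using hi⟩, ![1, 0], by simpa [f₁, T.ha] using hi⟩
  have hs : ∀ u v, f₂ u v = f₂ v u := fun u v => by
    show u ⬝ᵥ T.G *ᵥ v = v ⬝ᵥ T.G *ᵥ u
    rw [Matrix.dotProduct_mulVec, dotProduct_comm, ← Matrix.mulVec_transpose, T.hsym]
  have h₂ : IsSymmetricForm f₂ := by
    refine ⟨⟨fun x y v => ?_, fun c x v => ?_, fun v x y => ?_, fun c v x => ?_⟩, hs, fun v hv => ?_⟩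
    · simp only [f₂, add_dotProduct]
    · simp only [f₂, smul_dotProduct, smul_eq_mul]
    · simp only [f₂, Matrix.mulVec_add, dotProduct_add]
    · simp only [f₂, Matrix.mulVec_smul, dotProduct_smul, smul_eq_mul]
    have h : ∃ x, f₂ x v ≠ 0 := by
      by_contra hc
      simp only [not_exists, not_not] at hc
      apply hv
      have h0 : T.G *ᵥ v = 0 := dotProduct_eq_zero _ fun x => by rw [dotProduct_comm]; exact hc x
      exact Matrix.mulVec_injective_iff_isUnit.2 T.hG (by rw [h0, Matrix.mulVec_zero])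
    obtain ⟨x, hx⟩ := h
    exact ⟨⟨x, hx⟩, x, by rwa [hs]⟩
  have hstr : IsTensorFormStructure id ff f₁ f₂ e P := by
    refine ⟨1, one_ne_zero, fun x y => ?_⟩
    rw [hP, hP, ← MaxSub.stdAlt_apply, T.form, one_mul, g₁, g₂]
    simp only [formOfGram, dotProduct, Matrix.mulVec, Fintype.sum_prod_type, Fin.sum_univ_two,
      Matrix.kroneckerMap_apply, id_eq, Finset.mul_sum, mul_sub, ← Finset.sum_add_distrib, ← Finset.sum_sub_distrib]
    refine Finset.sum_congr rfl fun j _ => Finset.sum_congr rfl fun l _ => ?_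
    simp
    ring
  refine Or.inr (Or.inr (Or.inr (Or.inr (Or.inr (Or.inr (Or.inl
    ⟨hodd, h5, e, P, f₁, f₂, h₁, h₂, hstr, eq_inf_of_le hH (fun h hh => ?_)
      (not_le_tensorProductSubgroup le_rfl (by omega) e P)⟩))))))
  obtain ⟨C, D, hCD⟩ := T.act h hh
  exact hmem h C D hCD

end TensorData

/-- Over the field of three elements a symmetric form in dimension three has an orthogonal frame of equal values. -/
theorem exists_frame_three [Fintype F] (h3 : Fintype.card F = 3) {G : Matrix (Fin 3) (Fin 3) F} (hG : IsUnit G)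
    (hsym : Gᵀ = G) :
    ∃ (u : Fin 3 → Fin 3 → F) (c : F), c ≠ 0 ∧ ∀ i j, u i ⬝ᵥ G *ᵥ u j = if i = j then c else 0 := by
  classical
  have hpm : ∀ x : F, x ≠ 0 → x = 1 ∨ x = -1 := fun x hx => by
    have h := FiniteField.pow_card_sub_one_eq_one x hx
    rw [h3] at h
    have : (x - 1) * (x + 1) = 0 := by linear_combination h
    rcases mul_eq_zero.1 this with h | h
    · exact Or.inl (by linear_combination h)
    · exact Or.inr (by linear_combination h)
  have h30 : (3 : F) = 0 := by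
    have h := FiniteField.cast_card_eq_zero F
    rw [h3] at h
    exact_mod_cast h
  have h20 : (2 : F) ≠ 0 := fun h => one_ne_zero (α := F) (by linear_combination h30 - h)
  haveI : Invertible (2 : F) := invertibleOfNonzero h20
  have hcomm : ∀ x y : Fin 3 → F, x ⬝ᵥ G *ᵥ y = y ⬝ᵥ G *ᵥ x := fun x y => by
    rw [Matrix.dotProduct_mulVec, dotProduct_comm, ← Matrix.mulVec_transpose, hsym]
  have hsym' : LinearMap.IsSymm (Matrix.toBilin' G) := ⟨fun x y => by
    simp only [Matrix.toBilin'_apply', RingHom.id_apply]; exact hcomm x y⟩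
  obtain ⟨b, hb⟩ := LinearMap.BilinForm.exists_orthogonal_basis hsym'
  have hfr : Module.finrank F (Fin 3 → F) = 3 := by simp
  set b' := b.reindex (finCongr hfr) with hb'
  have hortho : ∀ i j, i ≠ j → b' i ⬝ᵥ G *ᵥ b' j = 0 := fun i j hij => by
    rw [← Matrix.toBilin'_apply', hb']
    simp only [Module.Basis.reindex_apply]
    exact hb (fun h => hij (by simpa using h))
  have hd : ∀ i, b' i ⬝ᵥ G *ᵥ b' i ≠ 0 := fun i h0 => by
    have hall : ∀ x, x ⬝ᵥ G *ᵥ b' i = 0 := fun x => by
      rw [← b'.sum_repr x, sum_dotProduct]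
      refine Finset.sum_eq_zero fun j _ => ?_
      rw [smul_dotProduct]
      rcases eq_or_ne j i with rfl | hji
      · rw [h0, smul_zero]
      · rw [hortho j i hji, smul_zero]
    have h := dotProduct_eq_zero _ fun x => (dotProduct_comm _ _).trans (hall x)
    exact b'.ne_zero i (Matrix.mulVec_injective_iff_isUnit.2 hG (by rw [h, Matrix.mulVec_zero]))
  have fix_three : ∀ (x y z : Fin 3 → F) (a : F), a ≠ 0 → x ⬝ᵥ G *ᵥ x = a → y ⬝ᵥ G *ᵥ y = a →
      z ⬝ᵥ G *ᵥ z ≠ 0 → x ⬝ᵥ G *ᵥ y = 0 → x ⬝ᵥ G *ᵥ z = 0 → y ⬝ᵥ G *ᵥ z = 0 →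
      ∃ (u : Fin 3 → Fin 3 → F) (c : F), c ≠ 0 ∧ ∀ i j, u i ⬝ᵥ G *ᵥ u j = if i = j then c else 0 := by
    intro x y z a ha hx hy hz hxy hxz hyz
    have hyx : y ⬝ᵥ G *ᵥ x = 0 := (hcomm _ _).trans hxy
    have hzx : z ⬝ᵥ G *ᵥ x = 0 := (hcomm _ _).trans hxz
    have hzy : z ⬝ᵥ G *ᵥ y = 0 := (hcomm _ _).trans hyz
    by_cases hza : z ⬝ᵥ G *ᵥ z = a
    · exact ⟨![x, y, z], a, ha, fun i j => by fin_cases i <;> fin_cases j <;> simp [*]⟩
    · have hz' : z ⬝ᵥ G *ᵥ z = -a := by
        rcases hpm a ha with h | h <;> rcases hpm _ hz with h' | h'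
        · exact absurd (h'.trans h.symm) hza
        · rw [h', h]
        · rw [h', h, neg_neg]
        · exact absurd (h'.trans h.symm) hza
      refine ⟨![x + y, x - y, z], -a, neg_ne_zero.2 ha, fun i j => ?_⟩
      fin_cases i <;> fin_cases j <;>
        simp [Matrix.mulVec_add, Matrix.mulVec_sub, hx, hy, hxy, hxz, hyz, hyx, hzx, hzy, hz'] <;>
        linear_combination a * h30
  rcases hpm _ (hd 0) with h0 | h0 <;> rcases hpm _ (hd 1) with h1 | h1 <;> rcases hpm _ (hd 2) with h2 | h2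
  all_goals first
    | exact fix_three (b' 0) (b' 1) (b' 2) _ (hd 0) rfl (h1.trans h0.symm) (hd 2) (hortho _ _ (by decide))
        (hortho _ _ (by decide)) (hortho _ _ (by decide))
    | exact fix_three (b' 0) (b' 2) (b' 1) _ (hd 0) rfl (h2.trans h0.symm) (hd 1) (hortho _ _ (by decide))
        (hortho _ _ (by decide)) (hortho _ _ (by decide))
    | exact fix_three (b' 1) (b' 2) (b' 0) _ (hd 1) rfl (h2.trans h1.symm) (hd 0) (hortho _ _ (by decide))
        (hortho _ _ (by decide)) (hortho _ _ (by decide))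

/-- The three-by-three orthogonal matrices over three elements are monomial. -/
theorem monomial_three [Fintype F] (h3 : Fintype.card F = 3) (v : Fin 3 → F) (hv : v ⬝ᵥ v = 1) :
    ∃ k, v k ≠ 0 ∧ ∀ l, l ≠ k → v l = 0 := by
  have hsq : ∀ x : F, x ≠ 0 → x * x = 1 := fun x hx => by
    have h := FiniteField.pow_card_sub_one_eq_one x hx
    rw [h3] at h
    rw [← h]; ring
  have h30 : (3 : F) = 0 := by
    have h := FiniteField.cast_card_eq_zero F
    rw [h3] at h
    exact_mod_cast h
  simp only [dotProduct, Fin.sum_univ_three] at hv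
  have hne : (1 : F) + 1 ≠ 1 := fun h => one_ne_zero (α := F) (by linear_combination h)
  have h3' : (1 : F) + 1 + 1 ≠ 1 := fun h => one_ne_zero (α := F) (by linear_combination h30 - h)
  by_cases a : v 0 = 0 <;> by_cases b : v 1 = 0 <;> by_cases c : v 2 = 0
  · simp [a, b, c] at hv
  · exact ⟨2, c, fun l hl => by fin_cases l <;> simp_all⟩
  · exact ⟨1, b, fun l hl => by fin_cases l <;> simp_all⟩
  · simp [a, hsq _ b, hsq _ c, hne] at hv
  · exact ⟨0, a, fun l hl => by fin_cases l <;> simp_all⟩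
  · simp [b, hsq _ a, hsq _ c, hne] at hv
  · simp [c, hsq _ a, hsq _ b, hne] at hv
  · rw [hsq _ a, hsq _ b, hsq _ c] at hv
    exact absurd hv h3'

/-- The exceptional case of dimension six over three elements. -/
theorem TensorData.case_planes [Fintype F] (hm : m = 3) (h3 : Fintype.card F = 3)
    {H : Subgroup (Matrix.GeneralLinearGroup (Fin m ⊕ Fin m) F)} (T : TensorData H) (hH : IsMaximalIn SP H) :
    Cases H := by
  classical
  subst hm
  obtain ⟨t, c, hc, ht⟩ := exists_frame_three h3 T.hG T.hsym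
  have htc : ∀ i, t i ⬝ᵥ T.G *ᵥ t i = c := fun i => by rw [ht, if_pos rfl]
  have ht0 : ∀ i, t i ≠ 0 := fun i h => hc (by rw [← htc i, h, zero_dotProduct])
  set M : Matrix (Fin 3) (Fin 3) F := Matrix.of fun i j => t j i with hM
  have hMG : Mᵀ * T.G * M = c • 1 := by
    ext i j
    have : (Mᵀ * T.G * M) i j = t i ⬝ᵥ T.G *ᵥ t j := by
      rw [Matrix.dotProduct_mulVec, Matrix.mul_apply]
      rfl
    rw [this, ht, Matrix.smul_apply, Matrix.one_apply, smul_eq_mul, mul_ite, mul_one, mul_zero]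
  have hMu : IsUnit M := by
    rw [Matrix.isUnit_iff_isUnit_det, isUnit_iff_ne_zero]
    intro h0
    have h := congrArg Matrix.det hMG
    rw [Matrix.det_mul, h0, mul_zero, Matrix.det_smul, Matrix.det_one, mul_one] at h
    exact pow_ne_zero _ hc h.symm
  obtain ⟨U, hU⟩ := hMu
  have hexp : ∀ x : Fin 3 → F, x = ∑ i, (((↑U⁻¹ : Matrix (Fin 3) (Fin 3) F) *ᵥ x) i) • t i := fun x => by
    conv_lhs => rw [← Matrix.one_mulVec x, ← Units.mul_inv U, ← Matrix.mulVec_mulVec, hU]
    funext l
    simp only [Matrix.mulVec, dotProduct, hM, Matrix.of_apply, Finset.sum_apply, Pi.smul_apply, smul_eq_mul]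
    exact Finset.sum_congr rfl fun i _ => mul_comm _ _
  have htinj : ∀ i j, t i ⬝ᵥ T.G *ᵥ t j ≠ 0 → i = j := fun i j h => by
    by_contra hij; exact h (by rw [ht, if_neg hij])
  set Dd : Fin 3 → Submodule F (Fin 3 ⊕ Fin 3 → F) := fun i => T.plane (t i) with hDd
  have horth : ∀ i j, i ≠ j → AreOrthogonalFor (Cfsg.sympForm 3 F) (Dd i) (Dd j) := by
    rintro i j hij _ ⟨u, rfl⟩ _ ⟨u', rfl⟩
    rw [← MaxSub.stdAlt_apply]
    show (MaxSub.stdAlt 3 F).B (T.L (tens (t i) u)) (T.L (tens (t j) u')) = 0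
    rw [T.form_tens, ht, if_neg hij, mul_zero, mul_zero]
  have hnd : ∀ i, IsNondegenerateOn (Cfsg.sympForm 3 F) (Dd i) := fun i => T.plane_nd (by rw [htc]; exact hc)
  have hdec : IsMDecomposition 2 Dd := by
    refine ⟨by norm_num, by norm_num, fun i => T.finrank_plane (ht0 i), ?_, ?_⟩
    · intro i
      rw [disjoint_iff, eq_bot_iff]
      intro x hx
      obtain ⟨hxi, hxr⟩ := Submodule.mem_inf.1 hx
      rw [Submodule.mem_bot]
      by_contra hx0
      obtain ⟨⟨y, hy, hyx⟩, -⟩ := hnd i x hxi hx0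
      have hle : ⨆ (j : Fin 3) (_ : j ≠ i), Dd j ≤ LinearMap.ker ((MaxSub.stdAlt 3 F).B y) :=
        iSup₂_le fun j hj w hw => by
          rw [LinearMap.mem_ker, MaxSub.stdAlt_apply]
          exact horth i j (Ne.symm hj) y hy w hw
      apply hyx
      rw [← MaxSub.stdAlt_apply]
      exact hle hxr
    · rw [eq_top_iff]
      intro v _
      obtain ⟨x, rfl⟩ := T.L.surjective v
      have hx : x = ∑ i, tens (t i) (fun r => ((↑U⁻¹ : Matrix (Fin 3) (Fin 3) F) *ᵥ fun j => x (r, j)) i) := by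
        funext p
        have := congrFun (hexp fun j => x (p.1, j)) p.2
        rw [Finset.sum_apply]
        simp only [Finset.sum_apply, Pi.smul_apply, smul_eq_mul] at this
        exact this
      rw [hx, map_sum]
      exact Submodule.sum_mem _ fun i _ => Submodule.mem_iSup_of_mem i ⟨_, rfl⟩
  have hle : H ≤ decompositionStabilizer Dd := by
    intro h hh
    obtain ⟨C, D, hCD, hD⟩ := T.act_form hH.1.le hh
    set δ := (C : Matrix (Fin 2) (Fin 2) F).det
    have hδ : δ ≠ 0 := ((Matrix.isUnit_iff_isUnit_det _).1 C.isUnit).ne_zero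
    set d : Fin 3 → Fin 3 → F := fun i => (↑U⁻¹ : Matrix (Fin 3) (Fin 3) F) *ᵥ ((D : Matrix (Fin 3) (Fin 3) F) *ᵥ t i)
    have hDt : ∀ i, (D : Matrix (Fin 3) (Fin 3) F) *ᵥ t i = ∑ l, d i l • t l := fun i => hexp _
    have hcol : ∀ i j, δ * (d i ⬝ᵥ d j) = if i = j then 1 else 0 := by
      intro i j
      have h := hD (t i) (t j)
      rw [hDt i, hDt j, Matrix.mulVec_sum, sum_dotProduct, ht] at h
      simp only [dotProduct_sum, smul_dotProduct, Matrix.mulVec_smul, dotProduct_smul, smul_eq_mul, ht, mul_ite,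
        mul_zero, Finset.sum_ite_eq, Finset.mem_univ, if_true] at h
      refine mul_right_cancel₀ hc ?_
      rw [ite_mul, one_mul, zero_mul, ← h]
      simp only [dotProduct, Finset.mul_sum, Finset.sum_mul]
      exact Finset.sum_congr rfl fun l _ => by ring
    -- the multiplier is one
    have hδ1 : δ = 1 := by
      have hsq : δ * δ = 1 := by
        have h := FiniteField.pow_card_sub_one_eq_one δ hδ
        rw [h3] at h
        rw [← h]; ring
      let N : Matrix (Fin 3) (Fin 3) F := Matrix.of d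
      have hN : N * Nᵀ = δ • 1 := by
        ext i j
        have h := hcol i j
        rw [Matrix.smul_apply, Matrix.one_apply, smul_eq_mul]
        have h' : (N * Nᵀ) i j = d i ⬝ᵥ d j := rfl
        rw [h', mul_ite, mul_one, mul_zero]
        split_ifs with hij
        · rw [if_pos hij] at h
          linear_combination δ * h - (d i ⬝ᵥ d j) * hsq
        · rw [if_neg hij] at h
          exact (mul_eq_zero.1 h).resolve_left hδ
      have h := congrArg Matrix.det hN
      rw [Matrix.det_mul, Matrix.det_transpose, Matrix.det_smul, Matrix.det_one, mul_one, Fintype.card_fin] at h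
      have hdN : N.det ≠ 0 := fun h0 => by rw [h0, mul_zero] at h; exact pow_ne_zero _ hδ h.symm
      have h2 := FiniteField.pow_card_sub_one_eq_one N.det hdN
      rw [h3] at h2
      linear_combination h2 - h - δ * hsq
    simp only [hδ1, one_mul] at hcol
    choose σ hσ hσ0 using fun i => monomial_three h3 (d i) (by rw [hcol, if_pos rfl])
    have hσinj : Function.Injective σ := by
      intro i j hij
      by_contra hne
      have h := hcol i j
      rw [if_neg hne, dotProduct, Finset.sum_eq_single (σ i) (fun l _ hl => by rw [hσ0 i l hl, zero_mul])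
        (fun hn => absurd (Finset.mem_univ _) hn)] at h
      rcases mul_eq_zero.1 h with h | h
      · exact hσ i h
      · exact hσ j (hij ▸ h)
    refine ⟨Equiv.ofBijective σ (Finite.injective_iff_bijective.1 hσinj), fun i => ?_⟩
    rw [Equiv.ofBijective_apply]
    refine T.map_plane hCD (ht0 i) (ht0 _) (ρ := d i (σ i)) ?_
    rw [hDt i, Finset.sum_eq_single (σ i) (fun l _ hl => by rw [hσ0 i l hl, zero_smul])
      (fun hn => absurd (Finset.mem_univ _) hn)]
  exact Or.inr (Or.inr (Or.inl ⟨h3.ge, Dd, ⟨hdec, hnd, horth⟩,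
    eq_inf_of_le hH hle (not_le_decompositionStabilizer (by norm_num) hdec)⟩))


/-- A bilinear map between coordinate spaces is given by a matrix. -/
theorem ext_dot {n : ℕ} {X Y : Matrix (Fin n) (Fin n) F} (h : ∀ x y, x ⬝ᵥ X *ᵥ y = x ⬝ᵥ Y *ᵥ y) : X = Y := by
  ext i j
  simpa [Matrix.mulVec_single_one] using h (Pi.single i 1) (Pi.single j 1)

/-- An irreducible group fixing a symmetric matrix in characteristic two makes it alternating. -/
theorem alt_of_symm [Fintype F] (h2 : (2 : F) = 0) {d : ℕ} (hd : 1 < d) {ν : Type*} (A : ν → Matrix (Fin d) (Fin d) F)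
    (hirr : ∀ U : Submodule F (Fin d → F), (∀ n, ∀ u ∈ U, A n *ᵥ u ∈ U) → U = ⊥ ∨ U = ⊤)
    {X : Matrix (Fin d) (Fin d) F} (hsym : Xᵀ = X) (hfix : ∀ n, (A n)ᵀ * X * A n = X) (x : Fin d → F) :
    x ⬝ᵥ X *ᵥ x = 0 := by
  classical
  let q : (Fin d → F) → F := fun x => x ⬝ᵥ X *ᵥ x
  have hcomm : ∀ x y : Fin d → F, x ⬝ᵥ X *ᵥ y = y ⬝ᵥ X *ᵥ x := fun x y => by
    rw [Matrix.dotProduct_mulVec, dotProduct_comm, ← Matrix.mulVec_transpose, hsym]
  have hadd : ∀ x y, q (x + y) = q x + q y := fun x y => by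
    simp only [q, Matrix.mulVec_add, add_dotProduct, dotProduct_add]
    rw [hcomm y x]
    linear_combination (x ⬝ᵥ X *ᵥ y) * h2
  have hsmul : ∀ (c : F) x, q (c • x) = c * c * q x := fun c x => by
    simp only [q, Matrix.mulVec_smul, smul_dotProduct, dotProduct_smul, smul_eq_mul]; ring
  let W : Submodule F (Fin d → F) :=
    { carrier := {v | q v = 0}
      add_mem' := fun {a b} (ha : q a = 0) (hb : q b = 0) => show q (a + b) = 0 by rw [hadd, ha, hb, add_zero]
      zero_mem' := show q 0 = 0 by simp [q]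
      smul_mem' := fun a v (hv : q v = 0) => show q (a • v) = 0 by rw [hsmul, hv, mul_zero] }
  rcases hirr W (fun n u (hu : q u = 0) => show q (A n *ᵥ u) = 0 by
    simp only [q] at hu ⊢
    rw [Matrix.mulVec_mulVec, Matrix.dotProduct_mulVec, ← Matrix.vecMul_transpose, Matrix.vecMul_vecMul, ← mul_assoc,
      hfix n, ← Matrix.dotProduct_mulVec, hu]) with hW | hW
  · exfalso
    have hinj : Function.Injective q := fun a b hab => by
      have hmem : a - b ∈ W := by
        show q (a - b) = 0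
        have := hadd (a - b) b
        rw [sub_add_cancel, hab] at this
        linear_combination -this
      rw [hW, Submodule.mem_bot, sub_eq_zero] at hmem
      exact hmem
    have hcard := Fintype.card_le_of_injective q hinj
    rw [Fintype.card_fun, Fintype.card_fin] at hcard
    have h1 : 1 < Fintype.card F := Fintype.one_lt_card
    have : Fintype.card F ^ 1 < Fintype.card F ^ d := Nat.pow_lt_pow_right h1 hd
    rw [pow_one] at this
    omega
  · exact (hW ▸ Submodule.mem_top : x ∈ W)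

/-- A homogeneous normal subgroup with scalar endomorphisms gives tensor data. -/
theorem exists_tensorData [Fintype F] (hm : m.Prime) (hodd : Odd m) {H N : Subgroup GG} (hHsp : H ≤ SP)
    (hNle : N ≤ H) (hNG : ∀ h ∈ H, ∀ x ∈ N, h * x * h⁻¹ ∈ N) {d k : ℕ} (hdk : d * k = 2 * m) (hd : 1 < d) (hk : 1 < k)
    (A : N → Matrix (Fin d) (Fin d) F)
    (hirr : ∀ U : Submodule F (Fin d → F), (∀ n, ∀ u ∈ U, A n *ᵥ u ∈ U) → U = ⊥ ∨ U = ⊤)
    (hscal : ∀ M : Matrix (Fin d) (Fin d) F, (∀ n, M * A n = A n * M) → ∃ c : F, M = c • 1)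
    (φ : Fin k → (Fin d → F) →ₗ[F] (Fin m ⊕ Fin m → F))
    (hequiv : ∀ j (n : N) x, ((n : GG) : Matrix II II F) *ᵥ φ j x = φ j (A n *ᵥ x))
    (hbij : Function.Bijective (assemble φ)) : Nonempty (TensorData H) := by
  classical
  set B := (MaxSub.stdAlt m F).B with hB
  have hφinj : ∀ j, Function.Injective (φ j) := fun j x y hxy => by
    have h := hbij.1 (a₁ := Pi.single j x) (a₂ := Pi.single j y) (by
      have e : ∀ v, assemble φ (Pi.single j v) = φ j v := fun v => by
        show ∑ l, φ l (Pi.single (M := fun _ => Fin d → F) j v l) = φ j v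
        rw [Finset.sum_eq_single j (fun l _ hl => by rw [Pi.single_eq_of_ne hl, map_zero])
          (fun hn => absurd (Finset.mem_univ _) hn), Pi.single_eq_same]
      rw [e, e, hxy])
    simpa using congrFun h j
  have hAu : ∀ n : N, IsUnit (A n) := fun n => by
    rw [← Matrix.mulVec_injective_iff_isUnit]
    intro x y hxy
    apply hφinj ⟨0, by omega⟩
    apply Matrix.mulVec_injective_iff_isUnit.2 (n : GG).isUnit
    show ((n : GG) : Matrix II II F) *ᵥ _ = ((n : GG) : Matrix II II F) *ᵥ _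
    rw [hequiv, hequiv]
    exact congrArg _ hxy
  set M : Fin k → Fin k → Matrix (Fin d) (Fin d) F := fun i j =>
    LinearMap.BilinForm.toMatrix' (B.compl₁₂ (φ i) (φ j)) with hMdef
  have hM : ∀ i j x y, B (φ i x) (φ j y) = x ⬝ᵥ M i j *ᵥ y := fun i j x y => by
    rw [← Matrix.toBilin'_apply', hMdef, Matrix.toBilin'_toMatrix']
    rfl
  have hinv : ∀ i j n, (A n)ᵀ * M i j * A n = M i j := fun i j n => ext_dot fun x y => by
    rw [← hM, ← Matrix.mulVec_mulVec, ← Matrix.mulVec_mulVec, Matrix.dotProduct_mulVec, Matrix.vecMul_transpose,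
      ← hM, ← hequiv, ← hequiv]
    exact MaxSub.mem_spGL_iff.1 (hHsp (hNle n.2)) _ _
  have hflat : ∀ v w : Fin k → Fin d → F, B (assemble φ v) (assemble φ w) = ∑ i, ∑ j, v i ⬝ᵥ M i j *ᵥ w j := by
    intro v w
    show B (∑ i, φ i (v i)) (∑ j, φ j (w j)) = _
    rw [LinearMap.map_sum₂]
    refine Finset.sum_congr rfl fun i _ => ?_
    rw [map_sum]
    exact Finset.sum_congr rfl fun j _ => hM i j _ _
  obtain ⟨i₀, j₀, hne⟩ : ∃ i j, M i j ≠ 0 := by
    by_contra hcon
    push Not at hcon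
    obtain ⟨x, hx⟩ := sympPartner (F := F) (m := m) (v := Pi.single (Sum.inl ⟨0, hm.pos⟩) 1) (fun h => by
      simpa using congrFun h (Sum.inl ⟨0, hm.pos⟩))
    obtain ⟨v, hv⟩ := hbij.2 x
    obtain ⟨w, hw⟩ := hbij.2 (Pi.single (Sum.inl ⟨0, hm.pos⟩) (1 : F))
    apply hx
    rw [← MaxSub.stdAlt_apply, ← hv, ← hw, ← hB, hflat]
    simp [hcon]
  set g := M i₀ j₀ with hg
  have hgu : IsUnit g := by
    rw [← Matrix.mulVec_injective_iff_isUnit]
    have hker : LinearMap.ker (Matrix.toLin' g) = ⊥ := by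
      refine (hirr _ fun n u hu => ?_).resolve_right fun htop => hne ?_
      · rw [LinearMap.mem_ker, Matrix.toLin'_apply] at hu ⊢
        refine Matrix.mulVec_injective_iff_isUnit.2 ((Matrix.isUnit_transpose _).2 (hAu n)) ?_
        rw [Matrix.mulVec_zero, Matrix.mulVec_mulVec, Matrix.mulVec_mulVec, hinv, hu]
      · refine Matrix.toLin'.injective ?_
        rw [map_zero]
        exact LinearMap.ker_eq_top.1 htop
    intro u w huw
    exact LinearMap.ker_eq_bot.1 hker (by rwa [Matrix.toLin'_apply, Matrix.toLin'_apply])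
  obtain ⟨U, hU⟩ := hgu
  have hmult : ∀ X : Matrix (Fin d) (Fin d) F, (∀ n, (A n)ᵀ * X * A n = X) → ∃ c : F, X = c • g := by
    intro X hX
    obtain ⟨c, hc⟩ := hscal ((↑U⁻¹ : Matrix (Fin d) (Fin d) F) * X) fun n => by
      set Mx := (↑U⁻¹ : Matrix (Fin d) (Fin d) F) * X with hMx
      have hgM : g * Mx = X := by rw [hMx, ← mul_assoc, ← hU, Units.mul_inv, one_mul]
      refine (hU ▸ U.isUnit).mul_left_cancel (((Matrix.isUnit_transpose _).2 (hAu n)).mul_left_cancel ?_)
      calc (A n)ᵀ * (g * (Mx * A n)) = (A n)ᵀ * (g * Mx) * A n := by simp only [mul_assoc]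
        _ = X := by rw [hgM, hX n]
        _ = (A n)ᵀ * g * A n * Mx := by rw [hinv i₀ j₀ n, hgM]
        _ = (A n)ᵀ * (g * (A n * Mx)) := by simp only [mul_assoc]
    refine ⟨c, ?_⟩
    have h := congrArg (fun Y => (U : Matrix (Fin d) (Fin d) F) * Y) hc
    simp only [← mul_assoc, Units.mul_inv, one_mul, Matrix.mul_smul, mul_one] at h
    rw [h, hU]
  choose β hβ using fun i j => hmult _ (hinv i j)
  set Bm : Matrix (Fin k) (Fin k) F := Matrix.of β with hBm
  have hval : ∀ v w : Fin k → Fin d → F,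
      B (assemble φ v) (assemble φ w) = ∑ i, ∑ j, Bm i j * (v i ⬝ᵥ g *ᵥ w j) := fun v w => by
    rw [hflat]
    refine Finset.sum_congr rfl fun i _ => Finset.sum_congr rfl fun j _ => ?_
    rw [hβ, Matrix.smul_mulVec, dotProduct_smul, smul_eq_mul]; rfl
  have hBu : IsUnit Bm := by
    rw [← Matrix.mulVec_injective_iff_isUnit]
    intro v w hvw
    by_contra hne'
    set z := v - w
    have hz : z ≠ 0 := sub_ne_zero.2 hne'
    have hzB : Bm *ᵥ z = 0 := by rw [Matrix.mulVec_sub]; exact sub_eq_zero.2 hvw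
    obtain ⟨i, hi⟩ := Function.ne_iff.1 hz
    let x : Fin d → F := Pi.single ⟨0, by omega⟩ 1
    have hx : assemble φ (fun j => z j • x) ≠ 0 := fun h => hi (by
      have h' := congrFun (congrFun ((injective_iff_map_eq_zero (assemble φ)).1 hbij.1 _ h) i) ⟨0, by omega⟩
      simpa [x] using h')
    obtain ⟨y, hy⟩ := sympPartner hx
    obtain ⟨u, rfl⟩ := hbij.2 y
    apply hy
    rw [← MaxSub.stdAlt_apply, ← hB, hval]
    refine Finset.sum_eq_zero fun i' _ => ?_
    have : ∀ j, Bm i' j * (u i' ⬝ᵥ g *ᵥ (z j • x)) = Bm i' j * z j * (u i' ⬝ᵥ g *ᵥ x) := fun j => by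
      rw [Matrix.mulVec_smul, dotProduct_smul, smul_eq_mul]; ring
    rw [Finset.sum_congr rfl fun j _ => this j, ← Finset.sum_mul]
    show (Bm *ᵥ z) i' * _ = 0
    rw [hzB, Pi.zero_apply, zero_mul]
  obtain ⟨ε, hε⟩ := hmult gᵀ fun n => by
    rw [← Matrix.transpose_transpose (A n), ← Matrix.transpose_mul, ← Matrix.transpose_mul, Matrix.transpose_transpose,
      ← mul_assoc, hinv]
  haveI : Nonempty (Fin d) := ⟨⟨0, by omega⟩⟩
  obtain ⟨a, b, hab⟩ : ∃ a b, g a b ≠ 0 := PrimeDim.FormDescent.exists_ne_entry (by rw [← hU]; exact U.isUnit)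
  have hεε : ε * ε = 1 := by
    have h1 := congrFun (congrFun hε b) a
    have h2 := congrFun (congrFun hε a) b
    simp only [Matrix.transpose_apply, Matrix.smul_apply, smul_eq_mul] at h1 h2
    exact mul_right_cancel₀ hab (by linear_combination -h1 - ε * h2)
  have hswap : ∀ x y : Fin d → F, y ⬝ᵥ g *ᵥ x = ε * (x ⬝ᵥ g *ᵥ y) := fun x y => by
    rw [Matrix.dotProduct_mulVec, dotProduct_comm, ← Matrix.mulVec_transpose, hε, Matrix.smul_mulVec, dotProduct_smul,
      smul_eq_mul]
  have hskew : ∀ i j, Bm j i * ε = - Bm i j := fun i j => by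
    have h := (MaxSub.stdAlt m F).skew (φ i (Pi.single a 1)) (φ j (Pi.single b 1))
    rw [← hB, hM, hM, hβ, hβ, Matrix.smul_mulVec, Matrix.smul_mulVec, dotProduct_smul, dotProduct_smul,
      hswap (Pi.single a 1) (Pi.single b 1)] at h
    simp only [Matrix.mulVec_single_one, single_dotProduct, one_mul, smul_eq_mul] at h
    change β i j * g a b = _ at h
    show β j i * ε = - β i j
    exact mul_right_cancel₀ hab (by simp only [Matrix.col_apply] at h ⊢; linear_combination h)
  have hdiag : ∀ i x, Bm i i * (x ⬝ᵥ g *ᵥ x) = 0 := fun i x => by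
    have h := (MaxSub.stdAlt m F).alt (φ i x)
    rw [← hB, hM, hβ, Matrix.smul_mulVec, dotProduct_smul, smul_eq_mul] at h
    exact h
  have hkron : ∀ h ∈ H, ∃ (C : GL (Fin d) F) (D : GL (Fin k) F), ∀ v : Fin k → Fin d → F,
      (h : Matrix II II F) *ᵥ assemble φ v =
        assemble φ fun a => ∑ b, (D : Matrix (Fin k) (Fin k) F) a b • ((C : Matrix (Fin d) (Fin d) F) *ᵥ v b) :=
    fun h hh => exists_kronecker (by omega) (by omega) A hirr hscal φ hequiv hbij h fun x hx => hNG h hh x hx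
  have hcases : (d = 2 ∧ k = m) ∨ (d = m ∧ k = 2) := by
    rcases hm.dvd_mul.1 (hdk ▸ dvd_mul_left m 2) with ⟨t, ht⟩ | ⟨t, ht⟩
    · have h : t * k = 2 := Nat.eq_of_mul_eq_mul_left hm.pos (by rw [← mul_assoc, ← ht, hdk, mul_comm])
      have ht1 : t = 1 := by
        have := Nat.le_of_dvd (by omega) (Dvd.intro k h)
        rcases t with _ | _ | _ | t <;> simp at h ⊢ <;> omega
      subst ht1
      exact Or.inr ⟨by simpa using ht, by simpa using h⟩
    · have h : t * d = 2 := Nat.eq_of_mul_eq_mul_left hm.pos (by rw [← mul_assoc, ← ht, mul_comm, hdk, mul_comm])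
      have ht1 : t = 1 := by
        have := Nat.le_of_dvd (by omega) (Dvd.intro d h)
        rcases t with _ | _ | _ | t <;> simp at h ⊢ <;> omega
      subst ht1
      exact Or.inl ⟨by simpa using h, by simpa using ht⟩
  have hzero : ∀ {n : ℕ} (X : Matrix (Fin n) (Fin n) F), Odd n → Xᵀ = -X → (∀ i, X i i = 0) → X.det = 0 := by
    intro n X hn hX hd0
    by_cases h2 : (2 : F) = 0
    · refine PrimeDim.FormDescent.det_alt_char_two h2 (by simpa using hn) X ?_ hd0
      rw [hX]
      ext i j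
      simp only [Matrix.neg_apply]
      linear_combination (-(X i j)) * h2
    · have h := congrArg Matrix.det hX
      rw [Matrix.det_transpose, Matrix.det_neg, Fintype.card_fin, hn.neg_one_pow] at h
      exact (mul_eq_zero.1 (show (2 : F) * X.det = 0 by linear_combination h)).resolve_left h2
  have hgne : g.det ≠ 0 := ((Matrix.isUnit_iff_isUnit_det _).1 (hU ▸ U.isUnit)).ne_zero
  have hBne : Bm.det ≠ 0 := ((Matrix.isUnit_iff_isUnit_det _).1 hBu).ne_zero
  -- the diagonal of the form on the irreducible module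
  have halt : (2 : F) = 0 → ∀ x, x ⬝ᵥ g *ᵥ x = 0 := fun h2 => alt_of_symm h2 hd A hirr (by
    have h : (ε - 1) * (ε - 1) = 0 := by linear_combination hεε + (1 - ε) * h2
    rw [hε, sub_eq_zero.1 (mul_self_eq_zero.1 h), one_smul]) (hinv i₀ j₀)
  rcases hcases with ⟨rfl, rfl⟩ | ⟨rfl, rfl⟩
  · -- the irreducible module has dimension two
    have hε1 : ε = -1 := by
      by_contra hne'
      have h1 : ε = 1 := by
        have h := (mul_eq_zero.1 (show (ε - 1) * (ε + 1) = 0 by linear_combination hεε)).resolve_right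
          fun h => hne' (by linear_combination h)
        linear_combination h
      have h2 : (2 : F) ≠ 0 := fun h => hne' (by linear_combination h1 + h)
      refine hBne (hzero Bm hodd ?_ fun i => ?_)
      · ext i j
        have := hskew i j
        rw [h1, mul_one] at this
        exact this
      · have := hskew i i
        rw [h1, mul_one] at this
        exact (mul_eq_zero.1 (show (2 : F) * Bm i i = 0 by linear_combination this)).resolve_left h2
    have hgdiag : ∀ x, x ⬝ᵥ g *ᵥ x = 0 := fun x => by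
      by_cases h2 : (2 : F) = 0
      · exact halt h2 x
      · have := hswap x x
        rw [hε1] at this
        exact (mul_eq_zero.1 (show (2 : F) * (x ⬝ᵥ g *ᵥ x) = 0 by linear_combination this)).resolve_left h2
    have hg00 : g 0 0 = 0 := by simpa [Matrix.mulVec_single_one] using hgdiag (Pi.single 0 1)
    have hg11 : g 1 1 = 0 := by simpa [Matrix.mulVec_single_one] using hgdiag (Pi.single 1 1)
    have hg10 : g 1 0 = - g 0 1 := by
      have := congrFun (congrFun hε 0) 1
      simpa [hε1] using this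
    let sw : ((Fin 2 × Fin k) → F) ≃ₗ[F] (Fin k → Fin 2 → F) :=
      { toFun := fun x j i => x (i, j)
        invFun := fun v p => v p.2 p.1
        map_add' := fun _ _ => rfl
        map_smul' := fun _ _ => rfl
        left_inv := fun _ => rfl
        right_inv := fun _ => rfl }
    refine ⟨⟨sw.trans (LinearEquiv.ofBijective _ hbij), g 0 1, fun h0 => hgne ?_, Bm, hBu, ?_, fun x y => ?_,
      fun h hh => ?_⟩⟩
    · rw [Matrix.det_fin_two, hg00, hg11, h0]; ring
    · ext i j
      have := hskew i j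
      rw [hε1] at this
      simp only [Matrix.transpose_apply]
      linear_combination -this
    · show B (assemble φ fun j i => x (i, j)) (assemble φ fun j i => y (i, j)) = _
      rw [hval]
      simp only [dotProduct, Matrix.mulVec, Fin.sum_univ_two, hg00, hg11, hg10, Finset.mul_sum,
        ← Finset.sum_sub_distrib]
      exact Finset.sum_congr rfl fun i _ => Finset.sum_congr rfl fun j _ => by ring
    · obtain ⟨C, D, hCD⟩ := hkron h hh
      refine ⟨C, D, fun x => ?_⟩
      show (h : Matrix (Fin k ⊕ Fin k) (Fin k ⊕ Fin k) F) *ᵥ assemble φ (fun j i => x (i, j)) = _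
      rw [hCD]
      show _ = assemble φ _
      congr 1
      funext j i
      show _ = (((C : Matrix (Fin 2) (Fin 2) F) ⊗ₖ (D : Matrix (Fin k) (Fin k) F)) *ᵥ x) (i, j)
      simp only [Finset.sum_apply, Pi.smul_apply, smul_eq_mul, Matrix.mulVec, dotProduct, Finset.mul_sum]
      rw [Fintype.sum_prod_type, Finset.sum_comm]
      exact Finset.sum_congr rfl fun s _ => Finset.sum_congr rfl fun l _ => by
        rw [Matrix.kroneckerMap_apply]; ring
  · -- the multiplicity is two
    have hε1 : ε = 1 := by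
      by_contra hne'
      have h1 : ε = -1 := by
        have h := (mul_eq_zero.1 (show (ε - 1) * (ε + 1) = 0 by linear_combination hεε)).resolve_left
          fun h => hne' (by linear_combination h)
        linear_combination h
      have h2 : (2 : F) ≠ 0 := fun h => hne' (by linear_combination h1 - h)
      refine hgne (hzero g hodd (by rw [hε, h1, neg_one_smul]) fun i => ?_)
      have := congrFun (congrFun hε i) i
      rw [h1] at this
      simp only [Matrix.transpose_apply, Matrix.smul_apply, smul_eq_mul] at this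
      exact (mul_eq_zero.1 (show (2 : F) * g i i = 0 by linear_combination this)).resolve_left h2
    have h2 : (2 : F) ≠ 0 := fun h2 => by
      refine hgne (hzero g hodd ?_ fun i => ?_)
      · rw [hε, hε1, one_smul]
        ext i j
        rw [Matrix.neg_apply]
        linear_combination (g i j) * h2
      · simpa [Matrix.mulVec_single_one] using halt h2 (Pi.single i 1)
    have hb00 : ∀ i, Bm i i = 0 := fun i => by
      have := hskew i i
      rw [hε1, mul_one] at this
      exact (mul_eq_zero.1 (show (2 : F) * Bm i i = 0 by linear_combination this)).resolve_left h2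
    have hb10 : Bm 1 0 = - Bm 0 1 := by simpa [hε1] using hskew 0 1
    let sw : ((Fin 2 × Fin d) → F) ≃ₗ[F] (Fin 2 → Fin d → F) :=
      { toFun := fun x r j => x (r, j)
        invFun := fun v p => v p.1 p.2
        map_add' := fun _ _ => rfl
        map_smul' := fun _ _ => rfl
        left_inv := fun _ => rfl
        right_inv := fun _ => rfl }
    refine ⟨⟨sw.trans (LinearEquiv.ofBijective _ hbij), Bm 0 1, fun h0 => hBne ?_, g, hU ▸ U.isUnit,
      by rw [hε, hε1, one_smul], fun x y => ?_, fun h hh => ?_⟩⟩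
    · rw [Matrix.det_fin_two, hb00, hb00, h0]; ring
    · show B (assemble φ fun r j => x (r, j)) (assemble φ fun r j => y (r, j)) = _
      rw [hval]
      simp only [Fin.sum_univ_two, hb00, hb10]
      ring
    · obtain ⟨C, D, hCD⟩ := hkron h hh
      refine ⟨D, C, fun x => ?_⟩
      show (h : Matrix (Fin d ⊕ Fin d) (Fin d ⊕ Fin d) F) *ᵥ assemble φ (fun r j => x (r, j)) = _
      rw [hCD]
      show _ = assemble φ _
      congr 1
      funext r j
      show _ = (((D : Matrix (Fin 2) (Fin 2) F) ⊗ₖ (C : Matrix (Fin d) (Fin d) F)) *ᵥ x) (r, j)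
      simp only [Finset.sum_apply, Pi.smul_apply, smul_eq_mul, Matrix.mulVec, dotProduct, Finset.mul_sum]
      rw [Fintype.sum_prod_type]
      exact Finset.sum_congr rfl fun s _ => Finset.sum_congr rfl fun l _ => by
        rw [Matrix.kroneckerMap_apply]; ring

/-- The tensor step. -/
theorem tensor_cases [Fintype F] (hm : m.Prime) (hodd : Odd m) {H N : Subgroup GG} (hH : IsMaximalIn SP H)
    (hNle : N ≤ H) (hNG : ∀ h ∈ H, ∀ x ∈ N, h * x * h⁻¹ ∈ N) {d k : ℕ} (hdk : d * k = 2 * m) (hd : 1 < d) (hk : 1 < k)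
    (A : N → Matrix (Fin d) (Fin d) F)
    (hirr : ∀ U : Submodule F (Fin d → F), (∀ n, ∀ u ∈ U, A n *ᵥ u ∈ U) → U = ⊥ ∨ U = ⊤)
    (hscal : ∀ M : Matrix (Fin d) (Fin d) F, (∀ n, M * A n = A n * M) → ∃ c : F, M = c • 1)
    (φ : Fin k → (Fin d → F) →ₗ[F] (Fin m ⊕ Fin m → F))
    (hequiv : ∀ j (n : N) x, ((n : GG) : Matrix II II F) *ᵥ φ j x = φ j (A n *ᵥ x))
    (hbij : Function.Bijective (assemble φ)) : Cases H := by
  obtain ⟨T⟩ := exists_tensorData hm hodd hH.1.le hNle hNG hdk hd hk A hirr hscal φ hequiv hbij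
  have hm3 : 3 ≤ m := by
    rcases hodd with ⟨t, rfl⟩
    have := hm.two_le
    omega
  by_cases h2 : (2 : F) = 0
  · exact T.case_char_two hodd hm3 hH h2
  have hq : Odd (Fintype.card F) := by
    rw [Nat.odd_iff]
    exact FiniteField.odd_card_of_char_ne_two fun h => h2 (by
      haveI := ringChar.of_eq h
      exact CharTwo.two_eq_zero)
  by_cases h5 : m = 3 → 5 ≤ Fintype.card F
  · exact T.case_tensor hm3 hH hq h5
  · simp only [Classical.not_imp, not_le] at h5
    have h3 : Fintype.card F = 3 := by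
      obtain ⟨t, ht⟩ := hq
      have := Fintype.one_lt_card (α := F)
      omega
    exact T.case_planes h5.1 h3 hH

end Cfsg.Agent.Lib.SympTwoPrime
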