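import Cfsg.Agent.Lib.SympTwoPrime.Defs
import Cfsg.Agent.Lib.SympTwoPrime.Proper
import Cfsg.Agent.Lib.TwoPrimeDim.Centre
import Cfsg.Agent.Lib.MaxSub.SympInvolConj

/-!
The reducible and imprimitive maximal subgroups of the symplectic group in dimension twice an odd prime.
-/

set_option autoImplicit false
set_option linter.unusedSectionVars false

namespace Cfsg.Agent.Lib.SympTwoPrime

open Matrix Module Cfsg.Geo Cfsg.Agent.Lib.MaxSub
open scoped MatrixGroups Matrix

variable {m : ℕ} {F : Type*} [Field F] [Fintype F]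

local notation "II" => (Fin m ⊕ Fin m)
local notation "MM" => Matrix (Fin m ⊕ Fin m) (Fin m ⊕ Fin m) F
local notation "VV" => (Fin m ⊕ Fin m → F)
local notation "GG" => Matrix.GeneralLinearGroup (Fin m ⊕ Fin m) F
local notation "ff" => Cfsg.sympForm m F
local notation "BB" => (Cfsg.Agent.Lib.MaxSub.stdAlt m F)
local notation "SP" => Cfsg.spGL m F

theorem iso_of_mem {g : GG} (hg : g ∈ SP) (u v : VV) :
    (BB).B ((g : MM) *ᵥ u) ((g : MM) *ᵥ v) = (BB).B u v :=
  mem_spGL_iff.mp hg u v

theorem inv_cancel (g : GG) (v : VV) : ((g⁻¹ : GG) : MM) *ᵥ ((g : MM) *ᵥ v) = v := by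
  rw [Matrix.mulVec_mulVec, ← Units.val_mul, inv_mul_cancel, Units.val_one, Matrix.one_mulVec]

theorem cancel_inv (g : GG) (v : VV) : (g : MM) *ᵥ (((g⁻¹ : GG) : MM) *ᵥ v) = v := by
  rw [Matrix.mulVec_mulVec, ← Units.val_mul, mul_inv_cancel, Units.val_one, Matrix.one_mulVec]

theorem mem_stab_of_inv {H : Subgroup GG} {W : Submodule F VV}
    (hW : ∀ g ∈ H, ∀ w ∈ W, (g : MM) *ᵥ w ∈ W) {g : GG} (hg : g ∈ H) : g ∈ subspaceStabilizer W := by
  intro v
  refine ⟨fun hv => hW g hg v hv, fun hv => ?_⟩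
  have := hW g⁻¹ (H.inv_mem hg) _ hv
  change ((g⁻¹ : GG) : MM) *ᵥ ((g : MM) *ᵥ v) ∈ W at this
  rwa [inv_cancel] at this

theorem nd_of_ndOn {W : Submodule F VV} (hW : (BB).NdOn W) : IsNondegenerateOn ff W := by
  intro w hw hw0
  obtain ⟨x, hx, hne⟩ := hW w hw hw0
  rw [stdAlt_apply] at hne
  refine ⟨⟨x, hx, ?_⟩, x, hx, hne⟩
  rw [sp_symplectic.skew x w]
  exact neg_ne_zero.mpr hne

theorem finrank_sup_perp {W : Submodule F VV} (hW : (BB).NdOn W) :
    W ⊓ (BB).perp W = ⊥ ∧ finrank F W + finrank F ((BB).perp W) = 2 * m := by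
  have hdisj : W ⊓ (BB).perp W = ⊥ := by
    rw [Submodule.eq_bot_iff]
    rintro a ⟨ha, hap⟩
    by_contra ha0
    obtain ⟨x, hx, hne⟩ := hW a ha ha0
    exact hne ((BB).mem_perp' hap hx)
  refine ⟨hdisj, le_antisymm ?_ ?_⟩
  · have := Submodule.finrank_sup_add_finrank_inf_eq W ((BB).perp W)
    rw [hdisj, finrank_bot, add_zero] at this
    rw [← this]
    refine (Submodule.finrank_le _).trans (le_of_eq ?_)
    rw [Module.finrank_fintype_fun_eq_card, Fintype.card_sum, Fintype.card_fin, two_mul]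
  · let T : VV →ₗ[F] (W →ₗ[F] F) := (LinearMap.lcomp F F W.subtype) ∘ₗ (BB).B.flip
    have hker : LinearMap.ker T = (BB).perp W := by
      ext x
      rw [LinearMap.mem_ker, AltForm.mem_perp]
      exact ⟨fun h w hw => LinearMap.congr_fun h ⟨w, hw⟩, fun h => LinearMap.ext fun w => h w w.2⟩
    have h1 := T.finrank_range_add_finrank_ker
    have h2 := Submodule.finrank_le (LinearMap.range T)
    rw [Module.finrank_linearMap, Module.finrank_self, mul_one] at h2
    rw [hker, Module.finrank_fintype_fun_eq_card, Fintype.card_sum, Fintype.card_fin] at h1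
    omega

/-- The reducible maximal subgroups. -/
theorem reducible (hodd : Odd m) {H : Subgroup GG} (hH : IsMaximalIn SP H)
    (hred : ¬ ActsIrreducibly (matrixSet H)) : Cases H := by
  rw [Cfsg.Agent.Lib.TwoPrimeDim.actsIrreducibly_iff] at hred
  push Not at hred
  obtain ⟨W, hW, hW0, hW1⟩ := hred
  have hperp : ∀ g ∈ H, ∀ x ∈ (BB).perp W, (g : MM) *ᵥ x ∈ (BB).perp W := by
    intro g hg x hx w hw
    have h1 : ((g⁻¹ : GG) : MM) *ᵥ w ∈ W := hW g⁻¹ (H.inv_mem hg) w hw
    rw [← cancel_inv g w, iso_of_mem (hH.1.le hg)]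
    exact hx _ h1
  have hmk : ∀ U : Submodule F VV, U ≠ ⊥ → U ≠ ⊤ → (∀ g ∈ H, ∀ w ∈ U, (g : MM) *ᵥ w ∈ U) →
      H = subspaceStabilizer U ⊓ SP := fun U h0 h1 hU =>
    eq_inf_of_le hH (fun g hg => mem_stab_of_inv hU hg) (not_le_subspaceStabilizer h0 h1)
  by_cases hR : W ⊓ (BB).perp W = ⊥
  · have hnd : (BB).NdOn W := by
      intro a ha ha0
      by_contra hc
      push Not at hc
      refine ha0 ?_
      have : a ∈ W ⊓ (BB).perp W := ⟨ha, fun w hw => by rw [(BB).skew, hc w hw, neg_zero]⟩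
      rwa [hR, Submodule.mem_bot] at this
    have hdim := (finrank_sup_perp hnd).2
    have hWne : 0 < finrank F W := Nat.pos_of_ne_zero fun h => hW0 (Submodule.finrank_eq_zero.mp h)
    rcases lt_trichotomy (finrank F W) m with h | h | h
    · exact Or.inr (Or.inl ⟨W, hW0, nd_of_ndOn hnd, h, hmk W hW0 hW1 hW⟩)
    · exfalso
      have := SympInvolConj.even_finrank (BB) hnd
      rw [h] at this
      exact (Nat.not_even_iff_odd.mpr hodd) this
    · have hnd' : (BB).NdOn ((BB).perp W) := by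
        intro a ha ha0
        by_contra hc
        push Not at hc
        refine ha0 ?_
        have hmem : a ∈ (BB).perp ((BB).perp W) := fun w hw => by rw [(BB).skew, hc w hw, neg_zero]
        rw [(BB).perp_perp] at hmem
        have : a ∈ W ⊓ (BB).perp W := ⟨hmem, ha⟩
        rwa [hR, Submodule.mem_bot] at this
      have h0 : (BB).perp W ≠ ⊥ := by
        intro hb
        refine hW1 (Submodule.eq_top_of_finrank_eq ?_)
        rw [hb, finrank_bot] at hdim
        rw [Module.finrank_fintype_fun_eq_card, Fintype.card_sum, Fintype.card_fin]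
        omega
      have h1 : (BB).perp W ≠ ⊤ := by
        intro hb
        rw [hb, finrank_top, Module.finrank_fintype_fun_eq_card, Fintype.card_sum, Fintype.card_fin] at hdim
        omega
      exact Or.inr (Or.inl ⟨_, h0, nd_of_ndOn hnd', by omega, hmk _ h0 h1 hperp⟩)
  · refine Or.inl ⟨W ⊓ (BB).perp W, hR, fun u hu v hv => ?_, hmk _ hR (fun h => hW1 ?_)
      (fun g hg w hw => ⟨hW g hg w hw.1, hperp g hg w hw.2⟩)⟩
    · rw [← stdAlt_apply]
      exact hv.2 u hu.1
    · exact eq_top_iff.mpr (h.ge.trans inf_le_left)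

theorem card_cases : 3 ≤ Fintype.card F ∨ Fintype.card F = 2 := by
  have := Fintype.one_lt_card (α := F)
  omega

theorem eq_zero_or_one (h2 : Fintype.card F = 2) (x : F) : x = 0 ∨ x = 1 := by
  classical
  have h : ({0, 1} : Finset F) = Finset.univ := Finset.eq_univ_of_card _ (by
    rw [h2, Finset.card_pair (zero_ne_one' F)])
  have := Finset.mem_univ x
  rw [← h] at this
  simpa using this

theorem two_eq_zero_of_not_odd (h : ¬ Odd (Fintype.card F)) : (2 : F) = 0 := by
  by_contra hne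
  exact h (Nat.odd_iff.mpr (FiniteField.odd_card_of_char_ne_two fun hc => hne (by
    haveI := (CharP.congr (ringChar F) hc : CharP F 2)
    exact CharTwo.two_eq_zero)))

/-- Maximal subgroups permuting an orthogonal family of non-degenerate planes. -/
theorem planes (hm2 : 2 ≤ m) {H : Subgroup GG} (hH : IsMaximalIn SP H) (S : Finset (Submodule F VV))
    (hS : ∀ W ∈ S, (BB).NdOn W ∧ finrank F W = 2)
    (hperp : ∀ W ∈ S, ∀ W' ∈ S, W ≠ W' → ∀ u ∈ W, ∀ v ∈ W', (BB).B u v = 0)
    (htop : ⨆ W ∈ S, W = ⊤) (hperm : ∀ h ∈ H, ∀ W ∈ S, W.map (Matrix.toLin' (h : MM)) ∈ S) : Cases H := by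
  classical
  let D : Fin S.card → Submodule F VV := fun i => (S.equivFin.symm i : Submodule F VV)
  have hmem : ∀ i, D i ∈ S := fun i => (S.equivFin.symm i).2
  have hinj : Function.Injective D := Subtype.val_injective.comp S.equivFin.symm.injective
  have hsup : iSup D = ⊤ := by
    rw [← top_le_iff, ← htop, iSup₂_le_iff]
    intro W hW
    exact le_iSup_of_le (S.equivFin ⟨W, hW⟩) (le_of_eq (by simp [D]))
  have horth : ∀ i j, i ≠ j → ∀ u ∈ D i, ∀ v ∈ D j, (BB).B u v = 0 := fun i j hij =>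
    hperp _ (hmem i) _ (hmem j) fun h => hij (hinj h)
  have hindep : iSupIndep D := fun i => by
    rw [disjoint_iff, Submodule.eq_bot_iff]
    rintro v ⟨hv1, hv2⟩
    by_contra hv0
    obtain ⟨x, hx, hne⟩ := (hS _ (hmem i)).1 v hv1 hv0
    refine hne ?_
    have hle : (⨆ (j) (_ : j ≠ i), D j) ≤ LinearMap.ker ((BB).B.flip x) :=
      iSup₂_le fun j hj u hu => horth j i hj u hu x hx
    exact hle hv2
  have hcard : S.card = m := by
    have hint := DirectSum.isInternal_submodule_of_iSupIndep_of_iSup_eq_top hindep hsup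
    have h := (LinearEquiv.ofBijective (DirectSum.coeLinearMap D) hint).finrank_eq
    rw [Module.finrank_directSum, Finset.sum_congr rfl fun i _ => (hS _ (hmem i)).2, Finset.sum_const,
      Finset.card_univ, Fintype.card_fin, smul_eq_mul, Module.finrank_fintype_fun_eq_card, Fintype.card_sum,
      Fintype.card_fin] at h
    omega
  rcases card_cases (F := F) with hq | hq
  · let D' : Fin m → Submodule F VV := fun i => D (Fin.cast hcard.symm i)
    have hdec : IsMDecomposition 2 D' :=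
      ⟨hm2, two_pos, fun i => (hS _ (hmem _)).2, hindep.comp (Fin.cast_injective _), by
        rw [← top_le_iff, ← hsup, iSup_le_iff]
        exact fun i => le_iSup_of_le (Fin.cast hcard i) (le_of_eq (by simp [D']))⟩
    have hle : H ≤ decompositionStabilizer D' := by
      intro h hh
      let σ : Fin m → Fin m := fun i => Fin.cast hcard (S.equivFin ⟨_, hperm h hh _ (hmem (Fin.cast hcard.symm i))⟩)
      have hσ : ∀ i, (D' i).map (Matrix.toLin' (h : MM)) = D' (σ i) := fun i => by simp [D', σ, D]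
      have hi : Function.Injective σ := by
        intro i j hij
        have h1 : (D' i).map (Matrix.toLin' (h : MM)) = (D' j).map (Matrix.toLin' (h : MM)) := by
          rw [hσ, hσ, hij]
        exact Fin.cast_injective _ (hinj (Submodule.map_injective_of_injective
          (fun a b hab => Matrix.mulVec_injective_iff_isUnit.mpr h.isUnit (by simpa using hab)) h1))
      exact ⟨Equiv.ofBijective σ (Finite.injective_iff_bijective.mp hi), hσ⟩
    refine Or.inr (Or.inr (Or.inl ⟨hq, D', ⟨hdec, fun i => nd_of_ndOn (hS _ (hmem _)).1, ?_⟩,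
      eq_inf_of_le hH hle (not_le_decompositionStabilizer hm2 hdec)⟩))
    intro i j hij u hu v hv
    rw [← stdAlt_apply]
    exact horth _ _ (fun h => hij (Fin.cast_injective _ h)) u hu v hv
  -- the field of two elements: the sum of the anisotropic forms of the planes
  have h2 : (2 : F) = 0 := two_eq_zero_of_not_odd (by rw [hq]; decide)
  let g : Submodule F VV → VV → F := fun W v => if ∀ y ∈ W, (BB).B y v = 0 then 0 else 1
  let Q : VV → F := fun v => ∑ W ∈ S, g W v
  have hg0 : ∀ W, g W 0 = 0 := fun W => if_pos fun y _ => map_zero _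
  have hgc : ∀ W ∈ S, ∀ v x, x ∈ W → (∀ y ∈ W, (BB).B y v = (BB).B y x) →
      g W v = if x = 0 then 0 else 1 := by
    intro W hW v x hx hvx
    by_cases hx0 : x = 0
    · rw [if_pos hx0]
      exact if_pos fun y hy => by rw [hvx y hy, hx0, map_zero]
    · rw [if_neg hx0]
      refine if_neg fun h => ?_
      obtain ⟨y, hy, hne⟩ := (hS W hW).1 x hx hx0
      exact hne (by rw [(BB).skew, ← hvx y hy, h y hy, neg_zero])
  have hone : (1 : F) + 1 = 0 := by rw [one_add_one_eq_two, h2]
  have hpair : ∀ W ∈ S, ∀ x ∈ W, ∀ x' ∈ W,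
      (if x + x' = 0 then (0 : F) else 1) - (if x = 0 then 0 else 1) - (if x' = 0 then 0 else 1) = (BB).B x x' := by
    intro W hW x hx x' hx'
    by_cases hx0 : x = 0
    · subst hx0; simp
    by_cases hx0' : x' = 0
    · subst hx0'; simp
    by_cases hxx : x + x' = 0
    · have : x' = -x := (neg_eq_of_add_eq_zero_right hxx).symm
      rw [if_pos hxx, if_neg hx0, if_neg hx0', this, map_neg, (BB).alt, neg_zero]
      linear_combination -hone
    rw [if_neg hxx, if_neg hx0, if_neg hx0']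
    rcases eq_zero_or_one hq ((BB).B x x') with h | h
    · exfalso
      have hne : x ≠ x' := by
        rintro rfl
        exact hxx (by rw [← two_smul F x, h2, zero_smul])
      have hli : LinearIndependent F ![x, x'] := by
        rw [LinearIndependent.pair_iff]
        intro a b hab
        rcases eq_zero_or_one hq a with rfl | rfl <;> rcases eq_zero_or_one hq b with rfl | rfl
        · exact ⟨rfl, rfl⟩
        · simp [hx0'] at hab
        · simp [hx0] at hab
        · simp [hxx] at hab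
      have hspan : Submodule.span F (Set.range ![x, x']) = W := by
        refine Submodule.eq_of_le_of_finrank_eq ?_ ?_
        · rw [Submodule.span_le]
          rintro _ ⟨i, rfl⟩
          fin_cases i <;> assumption
        · rw [finrank_span_eq_card hli, (hS W hW).2, Fintype.card_fin]
      obtain ⟨y, hy, hne'⟩ := (hS W hW).1 x hx hx0
      refine hne' ?_
      have hle : Submodule.span F (Set.range ![x, x']) ≤ LinearMap.ker ((BB).B x) := by
        rw [Submodule.span_le]
        rintro _ ⟨i, rfl⟩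
        fin_cases i
        · simpa using (BB).alt x
        · simpa using h
      exact hle (hspan.symm ▸ hy)
    · rw [h]; linear_combination -hone
  have hpol : ∀ u v : VV, QuadraticMap.polar Q u v = ff u v := by
    intro u v
    have hdec : ∀ z : VV, ∃ a : Submodule F VV → VV, (∀ W ∈ S, a W ∈ W) ∧ ∑ W ∈ S, a W = z := by
      intro z
      have hz : z ∈ ⨆ W ∈ S, W := htop ▸ Submodule.mem_top
      obtain ⟨μ, hμ⟩ := (Submodule.mem_iSup_finset_iff_exists_sum _ z).mp hz
      exact ⟨fun W => (μ W : VV), fun W _ => (μ W).2, hμ⟩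
    obtain ⟨a, ha, hsa⟩ := hdec u
    obtain ⟨b, hb, hsb⟩ := hdec v
    have hcomp : ∀ (c : Submodule F VV → VV), (∀ W ∈ S, c W ∈ W) → ∀ W ∈ S, ∀ y ∈ W,
        (BB).B y (∑ W' ∈ S, c W') = (BB).B y (c W) := by
      intro c hc W hW y hy
      rw [map_sum, Finset.sum_eq_single W (fun W' hW' hne => hperp W hW W' hW' hne.symm y hy _ (hc W' hW'))
        (fun h => absurd hW h)]
    have hf : ff u v = ∑ W ∈ S, (BB).B (a W) (b W) := by
      rw [← stdAlt_apply, ← hsa, map_sum, LinearMap.sum_apply]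
      exact Finset.sum_congr rfl fun W hW => by rw [← hsb, hcomp b hb W hW _ (ha W hW)]
    simp only [QuadraticMap.polar, Q, hf, ← Finset.sum_sub_distrib]
    refine Finset.sum_congr rfl fun W hW => ?_
    rw [hgc W hW u (a W) (ha W hW) (fun y hy => by rw [← hsa, hcomp a ha W hW y hy]),
      hgc W hW v (b W) (hb W hW) (fun y hy => by rw [← hsb, hcomp b hb W hW y hy]),
      hgc W hW (u + v) (a W + b W) (W.add_mem (ha W hW) (hb W hW))
        (fun y hy => by rw [map_add, map_add, ← hsa, hcomp a ha W hW y hy, ← hsb, hcomp b hb W hW y hy]),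
      hpair W hW _ (ha W hW) _ (hb W hW)]
  have hsmul : ∀ (c : F) (v : VV), Q (c • v) = c ^ 2 * Q v := by
    intro c v
    rcases eq_zero_or_one hq c with rfl | rfl
    · simp [Q, hg0]
    · simp
  have hQ : IsNondegenerateQuadraticForm Q := by
    have h : QuadraticMap.polar Q = (ff : VV → VV → F) := funext fun u => funext fun v => hpol u v
    exact ⟨hsmul, h ▸ sp_bilinear, h ▸ sp_symplectic.nondegenerate⟩
  have hle : H ≤ quadSimilarityGroup Q := by
    intro h hh
    refine ⟨1, fun v => ?_⟩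
    rw [Units.val_one, one_mul]
    have hgi : ∀ W, g (W.map (Matrix.toLin' (h : MM))) ((h : MM) *ᵥ v) = g W v := by
      intro W
      have hiff : (∀ y ∈ W.map (Matrix.toLin' (h : MM)), (BB).B y ((h : MM) *ᵥ v) = 0) ↔
          ∀ y ∈ W, (BB).B y v = 0 := by
        constructor
        · intro hy y hyW
          have := hy _ ⟨y, hyW, Matrix.toLin'_apply _ _⟩
          rwa [iso_of_mem (hH.1.le hh)] at this
        · rintro hy _ ⟨y, hyW, rfl⟩
          rw [Matrix.toLin'_apply, iso_of_mem (hH.1.le hh)]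
          exact hy y hyW
      simp only [g, hiff]
    have hinjh : Function.Injective (Submodule.map (Matrix.toLin' (h : MM))) :=
      Submodule.map_injective_of_injective fun a b hab =>
        Matrix.mulVec_injective_iff_isUnit.mpr h.isUnit (by simpa using hab)
    have himg : S.image (Submodule.map (Matrix.toLin' (h : MM))) = S :=
      Finset.eq_of_subset_of_card_le (fun W hW => by
          obtain ⟨W', hW', rfl⟩ := Finset.mem_image.mp hW
          exact hperm h hh W' hW')
        (by rw [Finset.card_image_of_injective _ hinjh])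
    show ∑ W ∈ S, g W ((h : MM) *ᵥ v) = ∑ W ∈ S, g W v
    conv_lhs => rw [← himg]
    rw [Finset.sum_image fun x _ y _ hxy => hinjh hxy]
    exact Finset.sum_congr rfl fun W _ => hgi W
  refine Or.inr (Or.inr (Or.inr (Or.inr (Or.inr (Or.inr (Or.inr (Or.inr (Or.inl ⟨?_, Q, hQ, hpol,
    eq_inf_of_le hH hle (not_le_quadSimilarityGroup hm2 hQ hpol)⟩))))))))
  rw [hq]; decide

/-- Adjoints with respect to the standard form exist. -/
theorem exists_adjoint (M : MM) : ∃ M' : MM, ∀ u v, (BB).B (M *ᵥ u) v = (BB).B u (M' *ᵥ v) := by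
  let e : VV ≃ₗ[F] VV := LinearEquiv.ofBijective (BB).psiL
    ⟨(BB).psi_injective, LinearMap.injective_iff_surjective.mp (BB).psi_injective⟩
  refine ⟨LinearMap.toMatrix' (e.symm.toLinearMap ∘ₗ Matrix.toLin' Mᵀ ∘ₗ e.toLinearMap), fun u v => ?_⟩
  rw [← Matrix.toLin'_apply (LinearMap.toMatrix' _) v, Matrix.toLin'_toMatrix']
  simp only [LinearMap.comp_apply, LinearEquiv.coe_coe, Matrix.toLin'_apply]
  rw [← (BB).psi_dot (e.symm _) u, ← (BB).psi_dot v (M *ᵥ u)]
  have hes : ∀ w, (BB).psi (e.symm w) = w := fun w => e.apply_symm_apply w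
  rw [hes, Matrix.mulVec_transpose, ← Matrix.dotProduct_mulVec]
  rfl

theorem adjoint_eq {M M' : MM} (h : ∀ u v, (BB).B u (M *ᵥ v) = (BB).B u (M' *ᵥ v)) : M = M' := by
  refine Cfsg.Agent.Lib.TwoPrimeDim.eq_of_mulVec fun v => sub_eq_zero.mp ((BB).nondeg _ fun u => ?_)
  rw [map_sub, h, sub_self]

theorem adjoint_symm {M M' : MM} (h : ∀ u v, (BB).B (M *ᵥ u) v = (BB).B u (M' *ᵥ v)) (u v : VV) :
    (BB).B (M' *ᵥ u) v = (BB).B u (M *ᵥ v) := by
  rw [(BB).skew, ← h, (BB).skew, neg_neg]

theorem commutes_adjoint {N : Subgroup GG} (hN : N ≤ SP) {M M' : MM}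
    (hM : ∀ g ∈ N, (g : MM) * M = M * (g : MM)) (h : ∀ u v, (BB).B (M *ᵥ u) v = (BB).B u (M' *ᵥ v)) :
    ∀ g ∈ N, (g : MM) * M' = M' * (g : MM) := by
  intro g hg
  refine adjoint_eq fun u v => ?_
  have key : M *ᵥ (((g⁻¹ : GG) : MM) *ᵥ u) = ((g⁻¹ : GG) : MM) *ᵥ (M *ᵥ u) := by
    rw [Matrix.mulVec_mulVec, Matrix.mulVec_mulVec, hM g⁻¹ (N.inv_mem hg)]
  rw [← Matrix.mulVec_mulVec, ← Matrix.mulVec_mulVec]
  conv_lhs => rw [← cancel_inv g u]
  rw [iso_of_mem (hN hg), ← h, key]
  conv_lhs => rw [← iso_of_mem (hN hg), cancel_inv]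
  rw [h]

theorem centre_adjoint {N : Subgroup GG} (hN : N ≤ SP) {M M' : MM}
    (hM : M ∈ Cfsg.Agent.Lib.TwoPrimeDim.centre N) (h : ∀ u v, (BB).B (M *ᵥ u) v = (BB).B u (M' *ᵥ v)) :
    M' ∈ Cfsg.Agent.Lib.TwoPrimeDim.centre N := by
  rw [Cfsg.Agent.Lib.TwoPrimeDim.mem_centre] at hM ⊢
  refine ⟨commutes_adjoint hN hM.1 h, fun X hX => adjoint_eq fun u v => ?_⟩
  obtain ⟨X', hX'⟩ := exists_adjoint X
  have hc := hM.2 X' (commutes_adjoint hN hX hX')
  rw [← Matrix.mulVec_mulVec, ← Matrix.mulVec_mulVec, ← adjoint_symm hX', ← h, ← h,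
    ← adjoint_symm hX', Matrix.mulVec_mulVec, Matrix.mulVec_mulVec, hc]

theorem centre_adjointClosed {N : Subgroup GG} (hN : N ≤ SP) :
    IsAdjointClosedFor ff (Cfsg.Agent.Lib.TwoPrimeDim.centre N) := by
  intro k hk
  obtain ⟨k', hk'⟩ := exists_adjoint k
  exact ⟨k', centre_adjoint hN hk hk', fun u v => by simpa only [stdAlt_apply] using hk' u v⟩

/-- The imprimitive maximal subgroups. -/
theorem imprimitive (hmp : m.Prime) (hodd : Odd m) {H N : Subgroup GG} (hH : IsMaximalIn SP H) (hN : N ≤ H)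
    {t w : ℕ} {e : Fin t → MM} (hB : Cfsg.Agent.Lib.TwoPrimeDim.Blocks H N w e) : Cases H := by
  classical
  have hm2 := hmp.two_le
  have hNS : N ≤ SP := hN.trans hH.1.le
  have hadj : ∀ i, ∃ j, ∀ u v, (BB).B (e i *ᵥ u) v = (BB).B u (e j *ᵥ v) := by
    intro i
    obtain ⟨f', hf'⟩ := exists_adjoint (e i)
    have hmemf := centre_adjoint hNS (hB.mem i) hf'
    have hf0 : f' ≠ 0 := fun h => hB.ne_zero i (by
      refine adjoint_eq fun u v => ?_
      rw [← adjoint_symm hf', h, Matrix.zero_mulVec, map_zero, LinearMap.zero_apply, Matrix.zero_mulVec, map_zero])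
    have hff : f' * f' = f' := adjoint_eq fun u v => by
      rw [← Matrix.mulVec_mulVec, ← hf', ← hf', ← hf', Matrix.mulVec_mulVec, hB.idem]
    have hprim : ∀ l, f' * e l = 0 ∨ f' * e l = f' := by
      intro l
      obtain ⟨x, hx⟩ := exists_adjoint (e l)
      have hxc := centre_adjoint hNS (hB.mem l) hx
      have hxx : x * x = x := adjoint_eq fun u v => by
        rw [← Matrix.mulVec_mulVec, ← hx, ← hx, ← hx, Matrix.mulVec_mulVec, hB.idem]
      have hkey : ∀ u v, (BB).B ((e i * x) *ᵥ u) v = (BB).B u ((f' * e l) *ᵥ v) := by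
        intro u v
        rw [Cfsg.Agent.Lib.TwoPrimeDim.centre_comm hmemf (hB.mem l), ← Matrix.mulVec_mulVec,
          ← Matrix.mulVec_mulVec, hf', adjoint_symm hx]
      rcases hB.prim i x hxc hxx with h | h
      · left
        refine adjoint_eq fun u v => ?_
        rw [← hkey, h, Matrix.zero_mulVec, map_zero, LinearMap.zero_apply, Matrix.zero_mulVec, map_zero]
      · right
        exact adjoint_eq fun u v => by rw [← hkey, h, hf']
    obtain ⟨j, rfl⟩ := hB.exists_eq hmemf hff hf0 hprim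
    exact ⟨j, hf'⟩
  choose σ hσ using hadj
  let D : Fin t → Submodule F VV := fun i => Cfsg.Agent.Lib.TwoPrimeDim.img (e i)
  have hDmem : ∀ i v, v ∈ D i ↔ e i *ᵥ v = v := fun i v =>
    Cfsg.Agent.Lib.TwoPrimeDim.mem_img_idem (hB.idem i)
  have hD0 : ∀ i j, i ≠ j → ∀ v ∈ D j, e i *ᵥ v = 0 := fun i j hij v hv => by
    rw [← (hDmem j v).mp hv, Matrix.mulVec_mulVec, hB.orth i j hij, Matrix.zero_mulVec]
  have hB0 : ∀ i j, σ i ≠ j → ∀ u ∈ D i, ∀ v ∈ D j, (BB).B u v = 0 := by
    intro i j hij u hu v hv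
    rw [← (hDmem i u).mp hu, hσ, hD0 (σ i) j hij v hv, map_zero]
  have hnd : ∀ i, ∀ u ∈ D i, u ≠ 0 → ∃ v ∈ D (σ i), (BB).B u v ≠ 0 := by
    intro i u hu hu0
    by_contra hc
    push Not at hc
    refine hu0 ((BB).nondeg u fun x => ?_)
    rw [(BB).skew, ← (hDmem i u).mp hu, hσ, hc (e (σ i) *ᵥ x) ⟨x, by rw [Matrix.toLin'_apply]⟩, neg_zero]
  have hej : ∀ i j, e i = e j → i = j := by
    intro i j h
    by_contra hne
    exact hB.ne_zero i (by rw [← hB.idem i]; conv_lhs => arg 2; rw [h]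
                           exact hB.orth i j hne)
  have hinvol : ∀ i, σ (σ i) = i := by
    intro i
    refine hej _ _ (adjoint_eq fun u v => ?_)
    rw [← hσ (σ i), adjoint_symm (hσ i)]
  have hperm : ∀ h ∈ H, ∀ τ : Equiv.Perm (Fin t),
      (∀ i, (h : MM) * e i * ((h⁻¹ : GG) : MM) = e (τ i)) → ∀ i, σ (τ i) = τ (σ i) := by
    intro h hh τ hτ i
    refine hej _ _ (adjoint_eq fun u v => ?_)
    have hi := iso_of_mem (hH.1.le hh)
    rw [← hσ, ← hτ, ← hτ, ← Matrix.mulVec_mulVec, ← Matrix.mulVec_mulVec, ← Matrix.mulVec_mulVec,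
      ← Matrix.mulVec_mulVec]
    conv_lhs => rw [← cancel_inv h v, hi, hσ]
    conv_rhs => rw [← cancel_inv h u, hi]
  have hdecD : IsMDecomposition w D := hB.decomp
  have hleD : H ≤ decompositionStabilizer D := hB.le_stab
  have ht2 := hdecD.two_le
  have hw0 := hdecD.pos
  have htw : t * w = 2 * m := by rw [hB.card_eq, Fintype.card_sum, Fintype.card_fin, two_mul]
  by_cases hfix : ∃ i, σ i = i
  · obtain ⟨i0, hi0⟩ := hfix
    have hall : ∀ i, σ i = i := by
      intro i
      obtain ⟨h, hh, he⟩ := hB.trans i0 i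
      obtain ⟨τ, hτ⟩ := hB.perm h hh
      have : τ i0 = i := hej _ _ ((hτ i0).symm.trans he)
      rw [← this, hperm h hh τ hτ, hi0]
    have hnd' : ∀ i, (BB).NdOn (D i) := fun i u hu hu0 => by
      obtain ⟨v, hv, hne⟩ := hnd i u hu hu0
      exact ⟨v, hall i ▸ hv, hne⟩
    have hwev : Even w := by
      have h := SympInvolConj.even_finrank (BB) (hnd' ⟨0, by omega⟩)
      rwa [hdecD.finrank_eq] at h
    obtain ⟨a, ha⟩ := hwev
    have ha1 : a = 1 := by
      have h1 : t * a = m := by rw [ha, mul_add] at htw; omega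
      rcases (Nat.dvd_prime hmp).mp ⟨t, by rw [mul_comm]; exact h1.symm⟩ with h | h
      · exact h
      · exfalso
        rw [h] at h1
        have : 2 * m ≤ t * m := Nat.mul_le_mul_right m ht2
        have := hmp.pos
        omega
    refine planes hm2 hH (Finset.univ.image D) ?_ ?_ ?_ ?_
    · intro W hW
      obtain ⟨i, -, rfl⟩ := Finset.mem_image.mp hW
      exact ⟨hnd' i, by rw [hdecD.finrank_eq, ha, ha1]⟩
    · intro W hW W' hW' hne u hu v hv
      obtain ⟨i, -, rfl⟩ := Finset.mem_image.mp hW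
      obtain ⟨j, -, rfl⟩ := Finset.mem_image.mp hW'
      exact hB0 i j (by rw [hall]; exact fun h => hne (h ▸ rfl)) u hu v hv
    · rw [← top_le_iff, ← hdecD.iSup_eq_top, iSup_le_iff]
      exact fun i => le_iSup₂_of_le (D i) (Finset.mem_image_of_mem _ (Finset.mem_univ i)) le_rfl
    · intro h hh W hW
      obtain ⟨i, -, rfl⟩ := Finset.mem_image.mp hW
      obtain ⟨τ, hτ⟩ := hleD hh
      exact Finset.mem_image.mpr ⟨τ i, Finset.mem_univ _, (hτ i).symm⟩
  push Not at hfix
  have hts : ∀ i, ∀ u ∈ D i, ∀ v ∈ D i, (BB).B u v = 0 := fun i => hB0 i i (hfix i)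
  by_cases ht : t = 2
  · subst ht
    have hwm : w = m := by omega
    have hdecm : IsMDecomposition m D := hwm ▸ hdecD
    rcases Decidable.em (Odd (Fintype.card F)) with hq | hq
    · exact Or.inr (Or.inr (Or.inr (Or.inl ⟨hq, D, hdecm, fun i u hu v hv => by
        rw [← stdAlt_apply]; exact hts i u hu v hv, eq_inf_of_le hH hleD (not_le_decompositionStabilizer hm2 hdecD)⟩)))
    have h2 := two_eq_zero_of_not_odd hq
    have hs0 : σ 0 = 1 := by
      have := hfix 0
      generalize σ 0 = s at this ⊢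
      fin_cases s
      · exact absurd rfl this
      · rfl
    have hs1 : σ 1 = 0 := by rw [← hs0, hinvol]
    have hsum : e 0 + e 1 = 1 := by rw [← hB.sum_eq, Fin.sum_univ_two]
    let Q : VV → F := fun v => (BB).B (e 0 *ᵥ v) v
    have hneg : ∀ x : F, -x = x := fun x => by linear_combination (-x) * h2
    have hcomm : ∀ x y, (BB).B x y = (BB).B y x := fun x y => by rw [(BB).skew, hneg]
    have hpol : ∀ u v : VV, QuadraticMap.polar Q u v = ff u v := by
      intro u v
      have h1 : (BB).B (e 0 *ᵥ v) u = (BB).B (e 1 *ᵥ u) v := by rw [hσ 0, hs0, hcomm]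
      have h3 : (BB).B u v = (BB).B (e 0 *ᵥ u) v + (BB).B (e 1 *ᵥ u) v := by
        rw [← LinearMap.add_apply, ← map_add, ← Matrix.add_mulVec, hsum, Matrix.one_mulVec]
      simp only [QuadraticMap.polar, Q, Matrix.mulVec_add, map_add, LinearMap.add_apply, ← stdAlt_apply, h3, h1]
      ring
    have hQ : IsNondegenerateQuadraticForm Q := by
      have h : QuadraticMap.polar Q = (ff : VV → VV → F) := funext fun u => funext fun v => hpol u v
      refine ⟨fun c v => ?_, h ▸ sp_bilinear, h ▸ sp_symplectic.nondegenerate⟩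
      simp only [Q, Matrix.mulVec_smul, map_smul, LinearMap.smul_apply, smul_eq_mul]
      ring
    have hle : H ≤ quadSimilarityGroup Q := by
      intro h hh
      refine ⟨1, fun v => ?_⟩
      rw [Units.val_one, one_mul]
      obtain ⟨τ, hτ⟩ := hB.perm h⁻¹ (H.inv_mem hh)
      have hτ' : ((h⁻¹ : GG) : MM) * e 0 * (h : MM) = e (τ 0) := by simpa using hτ 0
      show (BB).B (e 0 *ᵥ ((h : MM) *ᵥ v)) ((h : MM) *ᵥ v) = (BB).B (e 0 *ᵥ v) v
      conv_lhs => rw [← cancel_inv h (e 0 *ᵥ ((h : MM) *ᵥ v)), iso_of_mem (hH.1.le hh), Matrix.mulVec_mulVec,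
        Matrix.mulVec_mulVec, hτ']
      generalize τ 0 = s
      fin_cases s
      · rfl
      · show (BB).B (e 1 *ᵥ v) v = _
        rw [hσ 1, hs1, hcomm]
    exact Or.inr (Or.inr (Or.inr (Or.inr (Or.inr (Or.inr (Or.inr (Or.inr (Or.inl ⟨hq, Q, hQ, hpol,
      eq_inf_of_le hH hle (not_le_quadSimilarityGroup hm2 hQ hpol)⟩))))))))
  -- fixed-point-free pairing with at least four members: the members are lines
  have hw1 : w = 1 := by
    have hev : Even t := by
      have hsum : ∑ i : Fin t, (1 : ZMod 2) = 0 := Finset.sum_involution (fun i _ => σ i)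
        (fun _ _ => by decide) (fun i _ _ => hfix i) (fun _ _ => Finset.mem_univ _) (fun i _ => hinvol i)
      rw [Finset.sum_const, Finset.card_univ, Fintype.card_fin, nsmul_one,
        ZMod.natCast_eq_zero_iff_even] at hsum
      exact hsum
    obtain ⟨b, hb⟩ := hev
    have h1 : b * w = m := by rw [hb, add_mul] at htw; omega
    rcases (Nat.dvd_prime hmp).mp ⟨w, h1.symm⟩ with h | h
    · omega
    · rw [h] at h1
      exact Nat.eq_of_mul_eq_mul_left hmp.pos (h1.trans (mul_one m).symm)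
  let P : Fin t → Submodule F VV := fun i => D i ⊔ D (σ i)
  have hPeq : ∀ i, P (σ i) = P i := fun i => by simp only [P, hinvol]; exact sup_comm _ _
  refine planes hm2 hH (Finset.univ.image P) ?_ ?_ ?_ ?_
  · intro W hW
    obtain ⟨i, -, rfl⟩ := Finset.mem_image.mp hW
    refine ⟨fun a ha ha0 => ?_, ?_⟩
    · obtain ⟨x, hx, y, hy, rfl⟩ := Submodule.mem_sup.mp ha
      by_cases hx0 : x = 0
      · subst hx0
        rw [zero_add] at ha0
        obtain ⟨v, hv, hne⟩ := hnd (σ i) y hy ha0
        rw [hinvol] at hv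
        exact ⟨v, Submodule.mem_sup_left hv, by rwa [zero_add]⟩
      · obtain ⟨v, hv, hne⟩ := hnd i x hx hx0
        exact ⟨v, Submodule.mem_sup_right hv, by
          rwa [map_add, LinearMap.add_apply, hts (σ i) y hy v hv, add_zero]⟩
    · have hd : D i ⊓ D (σ i) = ⊥ := disjoint_iff.mp (hdecD.indep.pairwiseDisjoint (hfix i).symm)
      have h := Submodule.finrank_sup_add_finrank_inf_eq (D i) (D (σ i))
      rw [hd, finrank_bot, add_zero, hdecD.finrank_eq, hdecD.finrank_eq, hw1] at h
      exact h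
  · intro W hW W' hW' hne u hu v hv
    obtain ⟨i, -, rfl⟩ := Finset.mem_image.mp hW
    obtain ⟨j, -, rfl⟩ := Finset.mem_image.mp hW'
    obtain ⟨x, hx, y, hy, rfl⟩ := Submodule.mem_sup.mp hu
    obtain ⟨x', hx', y', hy', rfl⟩ := Submodule.mem_sup.mp hv
    have hji : j ≠ i := fun h => hne (h ▸ rfl)
    have hjs : j ≠ σ i := fun h => hne (h ▸ (hPeq i).symm)
    have h1 : σ i ≠ σ j := fun h => hji (by rw [← hinvol j, ← h, hinvol])
    have h2 : σ (σ i) ≠ σ j := fun h => hjs (by rw [← hinvol j, ← h, hinvol])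
    simp only [map_add, LinearMap.add_apply, hB0 i j hjs.symm x hx x' hx', hB0 i (σ j) h1 x hx y' hy',
      hB0 (σ i) j (by rw [hinvol]; exact hji.symm) y hy x' hx', hB0 (σ i) (σ j) h2 y hy y' hy', add_zero]
  · rw [← top_le_iff, ← hdecD.iSup_eq_top, iSup_le_iff]
    exact fun i => le_iSup₂_of_le (P i) (Finset.mem_image_of_mem _ (Finset.mem_univ i)) le_sup_left
  · intro h hh W hW
    obtain ⟨i, -, rfl⟩ := Finset.mem_image.mp hW
    obtain ⟨τ, hτ⟩ := hB.perm h hh
    refine Finset.mem_image.mpr ⟨τ i, Finset.mem_univ _, ?_⟩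
    simp only [P, D, Submodule.map_sup, Cfsg.Agent.Lib.TwoPrimeDim.map_img_conj, hτ, hperm h hh τ hτ]

end Cfsg.Agent.Lib.SympTwoPrime
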