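import Cfsg.Agent.Lib.SympTwoPrime.Defs
import Cfsg.Agent.Lib.SympTwoPrime.Proper
import Mathlib

/-!
helper12: maximal subgroups of the symplectic group in dimension twice an odd prime normalising a field of matrices.
-/

set_option autoImplicit false
set_option linter.unusedSectionVars false

namespace Cfsg.Agent.Lib.SympTwoPrime

open Matrix Cfsg.Geo Cfsg.Agent.Lib.MaxSub
open scoped MatrixGroups Matrix

variable {m : ℕ} {F : Type*} [Field F]

local notation "II" => (Fin m ⊕ Fin m)
local notation "MM" => Matrix (Fin m ⊕ Fin m) (Fin m ⊕ Fin m) F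
local notation "VV" => (Fin m ⊕ Fin m → F)
local notation "GG" => Matrix.GeneralLinearGroup (Fin m ⊕ Fin m) F
local notation "ff" => Cfsg.sympForm m F
local notation "SP" => Cfsg.spGL m F
local notation "AA" => Cfsg.Agent.Lib.MaxSub.stdAlt m F

theorem sp_ext {A B : MM} (h : ∀ u v : VV, ff u (A *ᵥ v) = ff u (B *ᵥ v)) : A = B :=
  MaxSub.eq_of_mulVec_eq fun v => sub_eq_zero.mp ((AA).nondeg _ fun u => by
    rw [map_sub, stdAlt_apply, stdAlt_apply, h u v, sub_self])

/-- A subfield of degree `m` inside a normalised adjoint closed field of degree `2 * m`. -/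
theorem exists_half [Fintype F] (hm : 0 < m) {K : Subalgebra F MM} (hK : IsFieldSubalgebra (2 * m) K)
    (hadj : IsAdjointClosedFor ff K) :
    ∃ L : Subalgebra F MM, IsFieldSubalgebra m L ∧ IsAdjointClosedFor ff L ∧
      ∀ h : GG, h ∈ subalgebraNormalizer K → h ∈ subalgebraNormalizer L := by
  haveI : Nonempty II := ⟨Sum.inl ⟨0, hm⟩⟩
  letI : CommRing K :=
    { (inferInstance : Ring K) with mul_comm := fun a b => Subtype.ext (hK.comm _ a.2 _ b.2) }
  haveI : Nontrivial K := ⟨⟨0, 1, fun h => zero_ne_one (α := MM) (congrArg Subtype.val h)⟩⟩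
  have hf : IsField K := ⟨⟨0, 1, zero_ne_one⟩, mul_comm, fun {a} ha => by
    obtain ⟨y, hy, hay⟩ := hK.inv _ a.2 fun h => ha (Subtype.ext h)
    exact ⟨⟨y, hy⟩, Subtype.ext hay⟩⟩
  letI : _root_.Field K := hf.toField
  haveI : Finite K := Finite.of_injective (fun x : K => (x : MM)) Subtype.val_injective
  have hrank : Module.finrank F K = 2 * m := hK.finrank_eq
  have hcard : Nat.card (K ≃ₐ[F] K) = 2 * m := by rw [IsGalois.card_aut_eq_finrank, hrank]
  haveI : Fact (Nat.Prime 2) := ⟨Nat.prime_two⟩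
  obtain ⟨τ, hτ⟩ := exists_prime_orderOf_dvd_card' (G := K ≃ₐ[F] K) 2 (by rw [hcard]; exact dvd_mul_right 2 m)
  let L0 : IntermediateField F K := IntermediateField.fixedField (Subgroup.zpowers τ)
  have hfin2 : Module.finrank L0 K = 2 := by
    rw [IntermediateField.finrank_fixedField_eq_card, Nat.card_zpowers, hτ]
  have hfinm : Module.finrank F L0 = m := by
    have h := Module.finrank_mul_finrank F L0 K
    rw [hfin2, hrank] at h
    omega
  have hmem : ∀ x : K, x ∈ L0 ↔ τ x = x := by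
    intro x
    constructor
    · intro hx; exact hx ⟨τ, Subgroup.mem_zpowers τ⟩
    · rintro hx ⟨g, hg⟩
      have hle : Subgroup.zpowers τ ≤ MulAction.stabilizer (K ≃ₐ[F] K) x :=
        Subgroup.zpowers_le.mpr hx
      exact hle hg
  have hcommute : ∀ a : K ≃ₐ[F] K, ∀ x : K, τ x = x → τ (a x) = a x := by
    intro a x hx
    letI := IsCyclic.commGroup (α := K ≃ₐ[F] K)
    have h : τ * a = a * τ := mul_comm τ a
    have h2 := congrArg (fun g : K ≃ₐ[F] K => g x) h
    simp only [AlgEquiv.mul_apply] at h2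
    rw [h2, hx]
  let L : Subalgebra F MM := L0.toSubalgebra.map K.val
  have hLmem : ∀ k : MM, k ∈ L ↔ ∃ hk : k ∈ K, τ ⟨k, hk⟩ = ⟨k, hk⟩ := by
    intro k
    constructor
    · rintro ⟨x, hx, rfl⟩
      exact ⟨x.2, (hmem x).mp hx⟩
    · rintro ⟨hk, h⟩
      exact ⟨⟨k, hk⟩, (hmem _).mpr h, rfl⟩
  refine ⟨L, ⟨?_, ?_, ?_⟩, ?_, ?_⟩
  · rintro x hx y hy
    obtain ⟨hx', -⟩ := (hLmem x).mp hx
    obtain ⟨hy', -⟩ := (hLmem y).mp hy
    exact hK.comm x hx' y hy'
  · intro x hx hx0
    obtain ⟨hx', hfix⟩ := (hLmem x).mp hx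
    obtain ⟨y, hy, hxy⟩ := hK.inv x hx' hx0
    refine ⟨y, (hLmem y).mpr ⟨hy, ?_⟩, hxy⟩
    have h1 : (⟨x, hx'⟩ : K) * ⟨y, hy⟩ = 1 := Subtype.ext hxy
    have h2 := congrArg τ h1
    rw [map_mul, map_one, hfix, ← h1] at h2
    exact mul_left_cancel₀ (fun h => hx0 (congrArg Subtype.val h)) h2
  · have e := (L0.toSubalgebra.equivMapOfInjective K.val Subtype.val_injective).toLinearEquiv.finrank_eq
    exact e.symm.trans hfinm
  · -- adjoint closed
    choose a ha hadj' using fun k : K => hadj k k.2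
    have huniq : ∀ (k : K) (k' : MM), (∀ u v : VV, ff ((k : MM) *ᵥ u) v = ff u (k' *ᵥ v)) → a k = k' :=
      fun k k' h => sp_ext fun u v => by rw [← hadj' k u v, h u v]
    let φ : K →ₐ[F] K :=
      { toFun := fun k => ⟨a k, ha k⟩
        map_one' := Subtype.ext (huniq 1 1 fun u v => by simp)
        map_mul' := fun x y => Subtype.ext ((huniq (x * y) (a y * a x) fun u v => by
          rw [Subalgebra.coe_mul, ← Matrix.mulVec_mulVec, ← Matrix.mulVec_mulVec, hadj', hadj']).trans
            (hK.comm _ (ha y) _ (ha x)))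
        map_zero' := Subtype.ext (huniq 0 0 fun u v => by
          simp only [← stdAlt_apply, ZeroMemClass.coe_zero, Matrix.zero_mulVec, map_zero, LinearMap.zero_apply])
        map_add' := fun x y => Subtype.ext (huniq (x + y) (a x + a y) fun u v => by
          have h1 := hadj' x u v
          have h2 := hadj' y u v
          simp only [← stdAlt_apply] at h1 h2 ⊢
          simp only [Subalgebra.coe_add, Matrix.add_mulVec, map_add, LinearMap.add_apply, h1, h2])
        commutes' := fun c => Subtype.ext (huniq _ (algebraMap F MM c) fun u v => by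
          simp only [← stdAlt_apply, Algebra.algebraMap_eq_smul_one, SetLike.val_smul, OneMemClass.coe_one, Matrix.smul_mulVec,
            Matrix.one_mulVec, map_smul, LinearMap.smul_apply, SetLike.val_smul, OneMemClass.coe_one]) }
    intro k hk
    obtain ⟨hk', hfix⟩ := (hLmem k).mp hk
    refine ⟨a ⟨k, hk'⟩, (hLmem _).mpr ⟨ha _, ?_⟩, hadj' ⟨k, hk'⟩⟩
    exact hcommute (AlgEquiv.ofBijective φ φ.bijective) ⟨k, hk'⟩ hfix
  · intro h hh k
    let ψ : K ≃ₐ[F] K := AlgEquiv.ofBijective
      ({ toFun := fun x => ⟨(h : MM) * x * ((h⁻¹ : GG) : MM), (hh x).mp x.2⟩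
         map_one' := Subtype.ext (by simp [← Units.val_mul])
         map_mul' := fun x y => Subtype.ext (by simp [mul_assoc])
         map_zero' := Subtype.ext (by simp)
         map_add' := fun x y => Subtype.ext (by simp [mul_add, add_mul])
         commutes' := fun c => Subtype.ext (by
           simp [Algebra.algebraMap_eq_smul_one, ← Units.val_mul]) } : K →ₐ[F] K) (AlgHom.bijective _)
    constructor
    · intro hk
      obtain ⟨hk', hfix⟩ := (hLmem k).mp hk
      exact (hLmem _).mpr ⟨(hh k).mp hk', hcommute ψ ⟨k, hk'⟩ hfix⟩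
    · intro hk
      obtain ⟨hk', hfix⟩ := (hLmem _).mp hk
      have hk0 : k ∈ K := (hh k).mpr hk'
      have h2 := hcommute ψ⁻¹ (ψ ⟨k, hk0⟩) hfix
      have h3 : ψ⁻¹ (ψ ⟨k, hk0⟩) = ⟨k, hk0⟩ := AlgEquiv.symm_apply_apply ψ _
      rw [h3] at h2
      exact (hLmem _).mpr ⟨hk0, h2⟩

/-- In a field of matrices of odd degree every element is self-adjoint. -/
theorem selfAdjoint_of_odd [Fintype F] (hm : 0 < m) {r : ℕ} (hr : Odd r) {K : Subalgebra F MM}
    (hK : IsFieldSubalgebra r K) (hadj : IsAdjointClosedFor ff K) : IsSelfAdjointFor ff K := by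
  haveI : Nonempty II := ⟨Sum.inl ⟨0, hm⟩⟩
  letI : CommRing K :=
    { (inferInstance : Ring K) with mul_comm := fun a b => Subtype.ext (hK.comm _ a.2 _ b.2) }
  haveI : Nontrivial K := ⟨⟨0, 1, fun h => zero_ne_one (α := MM) (congrArg Subtype.val h)⟩⟩
  have hf : IsField K := ⟨⟨0, 1, zero_ne_one⟩, mul_comm, fun {a} ha => by
    obtain ⟨y, hy, hay⟩ := hK.inv _ a.2 fun h => ha (Subtype.ext h)
    exact ⟨⟨y, hy⟩, Subtype.ext hay⟩⟩
  letI : _root_.Field K := hf.toField
  haveI : Finite K := Finite.of_injective (fun x : K => (x : MM)) Subtype.val_injective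
  choose a ha hadj' using fun k : K => hadj k k.2
  have huniq : ∀ (k : K) (k' : MM), (∀ u v : VV, ff ((k : MM) *ᵥ u) v = ff u (k' *ᵥ v)) → a k = k' :=
    fun k k' h => sp_ext fun u v => by rw [← hadj' k u v, h u v]
  let φ : K →ₐ[F] K :=
    { toFun := fun k => ⟨a k, ha k⟩
      map_one' := Subtype.ext (huniq 1 1 fun u v => by simp)
      map_mul' := fun x y => Subtype.ext ((huniq (x * y) (a y * a x) fun u v => by
        rw [Subalgebra.coe_mul, ← Matrix.mulVec_mulVec, ← Matrix.mulVec_mulVec, hadj', hadj']).trans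
          (hK.comm _ (ha y) _ (ha x)))
      map_zero' := Subtype.ext (huniq 0 0 fun u v => by
        simp only [← stdAlt_apply, ZeroMemClass.coe_zero, Matrix.zero_mulVec, map_zero, LinearMap.zero_apply])
      map_add' := fun x y => Subtype.ext (huniq (x + y) (a x + a y) fun u v => by
        have h1 := hadj' x u v
        have h2 := hadj' y u v
        simp only [← stdAlt_apply] at h1 h2 ⊢
        simp only [Subalgebra.coe_add, Matrix.add_mulVec, map_add, LinearMap.add_apply, h1, h2])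
      commutes' := fun c => Subtype.ext (huniq _ (algebraMap F MM c) fun u v => by
        simp only [← stdAlt_apply, Algebra.algebraMap_eq_smul_one, SetLike.val_smul, OneMemClass.coe_one, Matrix.smul_mulVec,
          Matrix.one_mulVec, map_smul, LinearMap.smul_apply, SetLike.val_smul, OneMemClass.coe_one]) }
  let g : K ≃ₐ[F] K := AlgEquiv.ofBijective φ φ.bijective
  have hg2 : g * g = 1 := AlgEquiv.ext fun k => Subtype.ext (huniq (φ k) k fun u v => by
    have h := hadj' k v u
    rw [sympSkew' ((φ k : MM) *ᵥ u) v, sympSkew' u _, h]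
    rfl)
  have hcard : Nat.card (K ≃ₐ[F] K) = r := by rw [IsGalois.card_aut_eq_finrank]; exact hK.finrank_eq
  have hg1 : g = 1 := by
    have h1 : orderOf g ∣ 2 := orderOf_dvd_of_pow_eq_one (by rw [pow_two, hg2])
    have h2 : orderOf g ∣ r := hcard ▸ orderOf_dvd_natCard g
    have hd : 2 ∣ r → False := fun hd => Nat.not_even_iff_odd.mpr hr (even_iff_two_dvd.mpr hd)
    rcases (Nat.dvd_prime Nat.prime_two).mp h1 with h | h
    · exact orderOf_eq_one_iff.mp h
    · exact (hd (h ▸ h2)).elim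
  intro k hk u v
  have h : a ⟨k, hk⟩ = k := congrArg (fun g : K ≃ₐ[F] K => ((g ⟨k, hk⟩ : K) : MM)) hg1
  have h2 := hadj' ⟨k, hk⟩ u v
  rwa [h] at h2
where
  sympSkew' (u v : VV) : ff u v = - ff v u := by
    simp only [← stdAlt_apply]; exact (AA).skew u v

/-- The values `f (k v, v)` vanish on a self-adjoint field. -/
theorem alt_of_selfAdjoint [Fintype F] (hm : 0 < m) {r : ℕ} {K : Subalgebra F MM} (hK : IsFieldSubalgebra r K)
    (hsa : IsSelfAdjointFor ff K) : ∀ k ∈ K, ∀ v : VV, ff (k *ᵥ v) v = 0 := by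
  intro k hk v
  by_cases h2 : (2 : F) = 0
  · haveI : Nonempty II := ⟨Sum.inl ⟨0, hm⟩⟩
    letI : CommRing K :=
      { (inferInstance : Ring K) with mul_comm := fun a b => Subtype.ext (hK.comm _ a.2 _ b.2) }
    haveI : Nontrivial K := ⟨⟨0, 1, fun h => zero_ne_one (α := MM) (congrArg Subtype.val h)⟩⟩
    have hf : IsField K := ⟨⟨0, 1, zero_ne_one⟩, mul_comm, fun {a} ha => by
      obtain ⟨y, hy, hay⟩ := hK.inv _ a.2 fun h => ha (Subtype.ext h)
      exact ⟨⟨y, hy⟩, Subtype.ext hay⟩⟩
    letI : _root_.Field K := hf.toField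
    haveI : Finite K := Finite.of_injective (fun x : K => (x : MM)) Subtype.val_injective
    haveI : CharP F 2 := CharTwo.of_one_ne_zero_of_two_eq_zero one_ne_zero h2
    haveI : CharP K 2 := charP_of_injective_algebraMap (algebraMap F K).injective 2
    obtain ⟨s, hs⟩ := FiniteField.isSquare_of_char_two (ringChar.eq K 2) (⟨k, hk⟩ : K)
    have hks : k = (s : MM) * s := congrArg Subtype.val hs
    rw [hks, ← Matrix.mulVec_mulVec, hsa s s.2, ← stdAlt_apply, (AA).alt]
  · have h := hsa k hk v v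
    rw [← stdAlt_apply, ← stdAlt_apply, (AA).skew v] at h
    rw [← stdAlt_apply]
    exact mul_left_cancel₀ h2 (by rw [two_mul, mul_zero]; linear_combination h)

/-- A self-adjoint quadratic field forces dimension divisible by four. -/
theorem dvd_of_selfAdjoint {ω : MM} {s t : F} (hsq : ω * ω = s • ω + t • (1 : MM))
    (hroot : ∀ x : F, x * x ≠ s * x + t)
    (hsa : ∀ u v : VV, ff (ω *ᵥ u) v = ff u (ω *ᵥ v)) (halt : ∀ v : VV, ff (ω *ᵥ v) v = 0) :
    ∀ W : Submodule F VV, (∀ x ∈ W, ω *ᵥ x ∈ W) → (∀ x ∈ W, (∀ y ∈ W, ff y x = 0) → x = 0) →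
      4 ∣ Module.finrank F W := by
  intro W
  induction hW : Module.finrank F W using Nat.strong_induction_on generalizing W with
  | _ n ih =>
    intro hinv hnd
    by_cases hn : n = 0
    · exact hn ▸ dvd_zero 4
    have hsqv : ∀ x : VV, ω *ᵥ (ω *ᵥ x) = s • ω *ᵥ x + t • x := fun x => by
      rw [Matrix.mulVec_mulVec, hsq, Matrix.add_mulVec, Matrix.smul_mulVec, Matrix.smul_mulVec, Matrix.one_mulVec]
    obtain ⟨v, hv, hv0⟩ := (Submodule.ne_bot_iff W).mp fun h => hn (by rw [← hW, h, finrank_bot])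
    obtain ⟨y₀, hy₀, hyv⟩ : ∃ y ∈ W, ff y v ≠ 0 := by
      by_contra hc
      push Not at hc
      exact hv0 (hnd v hv hc)
    let B := (AA).B
    have hB : ∀ u w, ff u w = B u w := fun u w => (stdAlt_apply u w).symm
    simp only [hB] at hsa halt hnd
    rw [hB] at hyv
    obtain ⟨y, hy, hwv⟩ : ∃ y ∈ W, B y v = -1 := ⟨(- (B y₀ v)⁻¹) • y₀, W.smul_mem _ hy₀, by
      rw [map_smul, LinearMap.smul_apply, smul_eq_mul, neg_mul, inv_mul_cancel₀ hyv]⟩
    have hvy : B v y = 1 := by rw [(AA).skew, hwv, neg_neg]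
    set a := B (ω *ᵥ v) y with ha
    have e1 : B v (ω *ᵥ y) = a := (hsa v y).symm
    have e2 : B (ω *ᵥ v) (ω *ᵥ y) = t + s * a := by
      rw [← hsa, hsqv]
      simp only [map_add, map_smul, LinearMap.add_apply, LinearMap.smul_apply, hvy, ← ha, smul_eq_mul]
      ring
    have hd : t + s * a - a * a ≠ 0 := fun h => hroot a (by linear_combination -h)
    have z1 : ∀ x, B x x = 0 := (AA).alt
    have z2 : ∀ x, B (ω *ᵥ x) x = 0 := halt
    have z3 : ∀ x, B x (ω *ᵥ x) = 0 := fun x => by rw [← hsa, z2]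
    let φ : VV →ₗ[F] Fin 4 → F := LinearMap.pi ![B v, B (ω *ᵥ v), B y, B (ω *ᵥ y)]
    let ψ : W →ₗ[F] Fin 4 → F := φ.comp W.subtype
    have f1 : φ v = ![0, 0, -1, -a] := by
      funext i
      fin_cases i
      · exact z1 v
      · exact z2 v
      · exact hwv
      · show B (ω *ᵥ y) v = -a
        rw [(AA).skew, e1]
    have f2 : φ (ω *ᵥ v) = ![0, 0, -a, -(t + s * a)] := by
      funext i
      fin_cases i
      · exact z3 v
      · exact z1 _
      · show B y (ω *ᵥ v) = -a
        rw [(AA).skew]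
      · show B (ω *ᵥ y) (ω *ᵥ v) = -(t + s * a)
        rw [(AA).skew, e2]
    have f3 : φ y = ![1, a, 0, 0] := by
      funext i
      fin_cases i
      · exact hvy
      · rfl
      · exact z1 y
      · exact z2 y
    have f4 : φ (ω *ᵥ y) = ![a, t + s * a, 0, 0] := by
      funext i
      fin_cases i
      · exact e1
      · exact e2
      · exact z3 y
      · exact z1 _
    have hsurj : ∀ c : Fin 4 → F, ∃ α β γ δ : F, φ (α • v + β • ω *ᵥ v + γ • y + δ • ω *ᵥ y) = c := by
      intro c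
      obtain ⟨e, he⟩ : ∃ e : F, (t + s * a - a * a) * e = 1 := ⟨_, mul_inv_cancel₀ hd⟩
      refine ⟨-((t + s * a) * c 2 - a * c 3) * e, -(c 3 - a * c 2) * e,
        ((t + s * a) * c 0 - a * c 1) * e, (c 1 - a * c 0) * e, ?_⟩
      simp only [map_add, map_smul, f1, f2, f3, f4]
      funext i
      fin_cases i
      · simp; linear_combination c 0 * he
      · simp; linear_combination c 1 * he
      · simp; linear_combination c 2 * he
      · simp; linear_combination c 3 * he
    have hmemU : ∀ α β γ δ : F, α • v + β • ω *ᵥ v + γ • y + δ • ω *ᵥ y ∈ W := fun α β γ δ =>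
      W.add_mem (W.add_mem (W.add_mem (W.smul_mem _ hv) (W.smul_mem _ (hinv v hv))) (W.smul_mem _ hy))
        (W.smul_mem _ (hinv y hy))
    have hψ : LinearMap.range ψ = ⊤ := by
      refine LinearMap.range_eq_top.mpr fun c => ?_
      obtain ⟨α, β, γ, δ, h⟩ := hsurj c
      exact ⟨⟨_, hmemU α β γ δ⟩, h⟩
    let W' : Submodule F VV := W ⊓ LinearMap.ker φ
    have hrank : Module.finrank F W' + 4 = n := by
      have h := LinearMap.finrank_range_add_finrank_ker ψ
      rw [hψ, finrank_top, Module.finrank_fin_fun, hW] at h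
      have hkk : Module.finrank F (LinearMap.ker ψ) = Module.finrank F W' := by
        have hmap : (LinearMap.ker ψ).map W.subtype = W' := by
          rw [LinearMap.ker_comp, Submodule.map_comap_eq, Submodule.range_subtype]
        rw [← hmap]
        exact (Submodule.equivMapOfInjective _ Subtype.val_injective _).finrank_eq
      omega
    have hinv' : ∀ x ∈ W', ω *ᵥ x ∈ W' := by
      rintro x ⟨hxW, hx⟩
      refine ⟨hinv x hxW, ?_⟩
      rw [SetLike.mem_coe, LinearMap.mem_ker] at hx ⊢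
      have p0 : B v x = 0 := congrFun hx 0
      have p1 : B (ω *ᵥ v) x = 0 := congrFun hx 1
      have p2 : B y x = 0 := congrFun hx 2
      have p3 : B (ω *ᵥ y) x = 0 := congrFun hx 3
      funext i
      fin_cases i
      · show B v (ω *ᵥ x) = 0
        rw [← hsa, p1]
      · show B (ω *ᵥ v) (ω *ᵥ x) = 0
        rw [← hsa, hsqv, map_add, map_smul, map_smul, LinearMap.add_apply, LinearMap.smul_apply,
          LinearMap.smul_apply, p0, p1, smul_zero, smul_zero, add_zero]
      · show B y (ω *ᵥ x) = 0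
        rw [← hsa, p3]
      · show B (ω *ᵥ y) (ω *ᵥ x) = 0
        rw [← hsa, hsqv, map_add, map_smul, map_smul, LinearMap.add_apply, LinearMap.smul_apply,
          LinearMap.smul_apply, p2, p3, smul_zero, smul_zero, add_zero]
    have hnd' : ∀ x ∈ W', (∀ z ∈ W', B z x = 0) → x = 0 := by
      rintro x ⟨hxW, hx⟩ hperp
      refine hnd x hxW fun z hz => ?_
      obtain ⟨α, β, γ, δ, hc⟩ := hsurj (φ z)
      set u := α • v + β • ω *ᵥ v + γ • y + δ • ω *ᵥ y with hu
      have hzu : z - u ∈ W' := ⟨W.sub_mem hz (hmemU α β γ δ), by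
        rw [SetLike.mem_coe, LinearMap.mem_ker, map_sub, hc, sub_self]⟩
      have hu0 : B u x = 0 := by
        rw [SetLike.mem_coe, LinearMap.mem_ker] at hx
        have p0 : B v x = 0 := congrFun hx 0
        have p1 : B (ω *ᵥ v) x = 0 := congrFun hx 1
        have p2 : B y x = 0 := congrFun hx 2
        have p3 : B (ω *ᵥ y) x = 0 := congrFun hx 3
        simp only [hu, map_add, map_smul, LinearMap.add_apply, LinearMap.smul_apply, p0, p1, p2, p3, smul_zero,
          add_zero]
      have h := hperp _ hzu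
      rw [map_sub, LinearMap.sub_apply, hu0, sub_zero] at h
      exact h
    have h4 := ih (Module.finrank F W') (by omega) W' rfl hinv' fun x hx h =>
      hnd' x hx fun z hz => by rw [← hB]; exact h z hz
    omega

theorem exists_quad_gen [Fintype F] (hm : 0 < m) {K : Subalgebra F MM} (hK : IsFieldSubalgebra 2 K) :
    ∃ (ω : MM) (s t : F), ω ∈ K ∧ ω * ω = s • ω + t • (1 : MM) ∧ (∀ x : F, x * x ≠ s * x + t) ∧
      ∀ k ∈ K, ∃ a b : F, k = a • (1 : MM) + b • ω := by
  haveI : Nonempty II := ⟨Sum.inl ⟨0, hm⟩⟩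
  obtain ⟨ω, hω, hnot⟩ : ∃ ω ∈ K, ∀ a : F, ω ≠ a • 1 := by
    by_contra hc
    push Not at hc
    have hsub : Subalgebra.toSubmodule K ≤ F ∙ (1 : MM) := fun k hk =>
      Submodule.mem_span_singleton.mpr (let ⟨a, ha⟩ := hc k hk; ⟨a, ha.symm⟩)
    have h2 := Submodule.finrank_mono hsub
    have h1 : Module.finrank F (F ∙ (1 : MM)) ≤ 1 := by simpa using finrank_span_le_card (R := F) ({1} : Set MM)
    rw [Subalgebra.finrank_toSubmodule, hK.finrank_eq] at h2
    omega
  have hli : LinearIndependent F ![(1 : MM), ω] := by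
    rw [LinearIndependent.pair_iff' one_ne_zero]
    exact fun a h => hnot a h.symm
  have hspan : Submodule.span F {(1 : MM), ω} = Subalgebra.toSubmodule K := by
    refine Submodule.eq_of_le_of_finrank_eq (Submodule.span_le.mpr ?_) ?_
    · rintro x (rfl | rfl)
      exacts [K.one_mem, hω]
    · rw [Subalgebra.finrank_toSubmodule, hK.finrank_eq]
      have h := finrank_span_eq_card hli
      rw [Matrix.range_cons, Matrix.range_cons, Matrix.range_empty, Set.union_empty, Set.singleton_union,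
        Fintype.card_fin] at h
      exact h
  have hall : ∀ k ∈ K, ∃ a b : F, k = a • (1 : MM) + b • ω := fun k hk => by
    have h : k ∈ Subalgebra.toSubmodule K := hk
    rw [← hspan, Submodule.mem_span_pair] at h
    obtain ⟨a, b, h⟩ := h
    exact ⟨a, b, h.symm⟩
  obtain ⟨t, s, hts⟩ := hall _ (K.mul_mem hω hω)
  refine ⟨ω, s, t, hω, by rw [hts, add_comm], fun x hx => ?_, hall⟩
  have hz : (ω - x • (1 : MM)) * (ω - (s - x) • (1 : MM)) = 0 := by
    rw [sub_mul, mul_sub, mul_sub, hts]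
    simp only [Matrix.smul_mul, Matrix.mul_smul, mul_one, one_mul, smul_smul]
    rw [show t = x * x - s * x by linear_combination -hx]
    module
  by_cases h1 : ω - x • (1 : MM) = 0
  · exact hnot x (sub_eq_zero.mp h1)
  obtain ⟨y, hy, hxy⟩ := hK.inv _ (K.sub_mem hω (K.smul_mem K.one_mem x)) h1
  refine hnot (s - x) (sub_eq_zero.mp ?_)
  have h := congrArg (y * ·) hz
  simp only [← mul_assoc, mul_zero] at h
  rwa [hK.comm y hy _ (K.sub_mem hω (K.smul_mem K.one_mem x)), hxy, one_mul] at h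

/-- Maximal subgroups normalising a field of matrices. -/
theorem field_cases [Fintype F] (hmp : m.Prime) (hmodd : Odd m) {H : Subgroup GG} (hH : IsMaximalIn SP H)
    (K : Subalgebra F MM) {r : ℕ} (hK : IsFieldSubalgebra r K) (h1 : 1 < r) (hr : r ∣ 2 * m)
    (hadj : IsAdjointClosedFor ff K) (hnorm : ∀ h ∈ H, h ∈ subalgebraNormalizer K) : Cases H := by
  have hm : 2 ≤ m := hmp.two_le
  have hcase : r = 2 ∨ r = m ∨ r = 2 * m := by
    obtain ⟨a, b, ha, hb, rfl⟩ := Nat.dvd_mul.mp hr
    rcases (Nat.dvd_prime Nat.prime_two).mp ha with rfl | rfl <;> rcases (Nat.dvd_prime hmp).mp hb with rfl | rfl <;> omega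
  have main : ∀ L : Subalgebra F MM, IsFieldSubalgebra m L → IsAdjointClosedFor ff L →
      (∀ h ∈ H, h ∈ subalgebraNormalizer L) → Cases H := by
    intro L hL ha hn
    have hsa := selfAdjoint_of_odd (by omega) hmodd hL ha
    refine Or.inr (Or.inr (Or.inr (Or.inr (Or.inl ⟨L, hL, hsa, alt_of_selfAdjoint (by omega) hL hsa, ?_⟩))))
    exact eq_inf_of_le hH hn (not_le_subalgebraNormalizer hm hm hL)
  rcases hcase with rfl | rfl | rfl
  · -- degree two
    by_cases hsa : IsSelfAdjointFor ff K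
    · exfalso
      obtain ⟨ω, s, t, hω, hsq, hroot, -⟩ := exists_quad_gen (by omega) hK
      have h4 := dvd_of_selfAdjoint hsq hroot (hsa ω hω) (alt_of_selfAdjoint (by omega) hK hsa ω hω) ⊤
        (fun x _ => trivial) fun x _ h => (AA).nondeg x fun y => by rw [stdAlt_apply]; exact h y trivial
      rw [finrank_top, Module.finrank_pi, Fintype.card_sum, Fintype.card_fin] at h4
      obtain ⟨j, hj⟩ := hmodd
      omega
    by_cases hq : Odd (Fintype.card F)
    · refine Or.inr (Or.inr (Or.inr (Or.inr (Or.inr (Or.inl ⟨hq, K, hK, hadj, hsa, ?_⟩)))))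
      exact eq_inf_of_le hH hnorm (not_le_subalgebraNormalizer hm le_rfl hK)
    -- characteristic two
    have h2 : (2 : F) = 0 := by
      have hc := FiniteField.even_card_iff_char_two.mpr (Nat.even_iff.mp (Nat.not_odd_iff_even.mp hq))
      haveI := ringChar.of_eq hc
      exact CharTwo.two_eq_zero
    obtain ⟨ω, s, t, hω, hsq, hroot, hall⟩ := exists_quad_gen (by omega) hK
    let B := (AA).B
    have hB : ∀ u w, ff u w = B u w := fun u w => (stdAlt_apply u w).symm
    obtain ⟨ω', hω', hadjω⟩ := hadj ω hω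
    have hne : ω' ≠ ω := fun h => hsa fun k hk u v => by
      obtain ⟨a, b, rfl⟩ := hall k hk
      have h1 := hadjω u v
      rw [h] at h1
      simp only [hB] at h1 ⊢
      simp only [Matrix.add_mulVec, Matrix.smul_mulVec, Matrix.one_mulVec, map_add, map_smul, LinearMap.add_apply,
        LinearMap.smul_apply, h1]
    have hsq' : ω' * ω' = s • ω' + t • (1 : MM) := sp_ext fun u v => by
      have h1 := hadjω (ω *ᵥ u) v
      rw [Matrix.mulVec_mulVec, hsq, hadjω u, Matrix.mulVec_mulVec] at h1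
      rw [← h1, Matrix.add_mulVec, Matrix.smul_mulVec, Matrix.smul_mulVec, Matrix.one_mulVec]
      have h3 := hadjω u v
      simp only [hB] at h3 ⊢
      simp only [Matrix.add_mulVec, Matrix.smul_mulVec, Matrix.one_mulVec, map_add, map_smul, LinearMap.add_apply,
        LinearMap.smul_apply, h3]
    have hsum : ω + ω' = s • (1 : MM) := by
      have hz : (ω' - ω) * (ω' + ω - s • (1 : MM)) = 0 := by
        have hc := hK.comm ω' hω' ω hω
        simp only [sub_mul, mul_sub, mul_add, Matrix.mul_smul, mul_one, hsq, hsq', hc]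
        module
      obtain ⟨y, hy, hxy⟩ := hK.inv _ (K.sub_mem hω' hω) (sub_ne_zero.mpr hne)
      have h := congrArg (y * ·) hz
      simp only [← mul_assoc, mul_zero] at h
      rw [hK.comm y hy _ (K.sub_mem hω' hω), hxy, one_mul] at h
      rw [add_comm]
      exact sub_eq_zero.mp h
    have hs : s ≠ 0 := fun h0 => by
      rw [h0, zero_smul] at hsum
      refine hne ?_
      have h3 : ω + ω = 0 := by rw [← two_smul F, h2, zero_smul]
      exact add_left_cancel (hsum.trans h3.symm)
    have hpol0 : ∀ u v, B (ω *ᵥ u) v + B (ω *ᵥ v) u = s * B u v := by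
      intro u v
      have h3 : B (ω *ᵥ v) u = B (ω' *ᵥ u) v := by
        rw [show B (ω *ᵥ v) u = B v (ω' *ᵥ u) by rw [← hB, ← hB]; exact hadjω v u, (AA).skew,
          neg_eq_iff_add_eq_zero, ← two_mul, h2, zero_mul]
      rw [h3, ← LinearMap.add_apply, ← map_add, ← Matrix.add_mulVec, hsum, Matrix.smul_mulVec,
        Matrix.one_mulVec, map_smul, LinearMap.smul_apply, smul_eq_mul]
    let Q : VV → F := fun v => s⁻¹ * B (ω *ᵥ v) v
    have hpol : ∀ u v : VV, QuadraticMap.polar Q u v = B u v := fun u v => by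
      show s⁻¹ * B (ω *ᵥ (u + v)) (u + v) - s⁻¹ * B (ω *ᵥ u) u - s⁻¹ * B (ω *ᵥ v) v = B u v
      rw [Matrix.mulVec_add]
      simp only [map_add, LinearMap.add_apply]
      rw [← mul_sub, ← mul_sub]
      rw [show B (ω *ᵥ u) u + B (ω *ᵥ v) u + (B (ω *ᵥ u) v + B (ω *ᵥ v) v) - B (ω *ᵥ u) u - B (ω *ᵥ v) v =
        B (ω *ᵥ u) v + B (ω *ᵥ v) u by ring, hpol0, ← mul_assoc, inv_mul_cancel₀ hs, one_mul]
    have hpolEq : QuadraticMap.polar Q = ff := funext fun u => funext fun v => (hpol u v).trans (stdAlt_apply u v)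
    have hQ : IsNondegenerateQuadraticForm Q :=
      ⟨fun c v => by
        show s⁻¹ * B (ω *ᵥ (c • v)) (c • v) = c ^ 2 * (s⁻¹ * B (ω *ᵥ v) v)
        simp only [Matrix.mulVec_smul, map_smul, LinearMap.smul_apply, smul_eq_mul]; ring,
        by rw [hpolEq]; exact sp_bilinear, by rw [hpolEq]; exact sp_symplectic.nondegenerate⟩
    refine Or.inr (Or.inr (Or.inr (Or.inr (Or.inr (Or.inr (Or.inr (Or.inr (Or.inl
      ⟨hq, Q, hQ, fun u v => (hpol u v).trans (stdAlt_apply u v), ?_⟩))))))))
    refine eq_inf_of_le hH (fun h hh => ⟨1, fun v => ?_⟩)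
      (not_le_quadSimilarityGroup hm hQ fun u v => (hpol u v).trans (stdAlt_apply u v))
    have hi : h⁻¹ ∈ H := H.inv_mem hh
    have hp : (AA).Preserves h := mem_spGL_iff.mp (hH.1.le hh)
    have hk : ((h⁻¹ : GG) : MM) * ω * (h : MM) ∈ K := by
      simpa using (hnorm _ hi ω).mp hω
    set w := ((h⁻¹ : GG) : MM) * ω * (h : MM) with hw
    have hwsq : w * w = s • w + t • (1 : MM) := by
      rw [hw]
      calc _ = ((h⁻¹ : GG) : MM) * (ω * ω) * (h : MM) := by simp [mul_assoc]
        _ = _ := by rw [hsq]; simp [mul_add, add_mul, ← Units.val_mul]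
    have hw2 : w = ω ∨ w = ω' := by
      have hz : (w - ω) * (w - ω') = 0 := by
        have e : ω' = s • (1 : MM) - ω := eq_sub_of_add_eq' hsum
        rw [e]
        have hc := hK.comm w hk ω hω
        simp only [sub_mul, mul_sub, Matrix.mul_smul, mul_one, hwsq, hsq, hc]
        module
      by_cases h0 : w - ω = 0
      · exact Or.inl (sub_eq_zero.mp h0)
      obtain ⟨y, hy, hxy⟩ := hK.inv _ (K.sub_mem hk hω) h0
      have h' := congrArg (y * ·) hz
      simp only [← mul_assoc, mul_zero] at h'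
      rw [hK.comm y hy _ (K.sub_mem hk hω), hxy, one_mul] at h'
      exact Or.inr (sub_eq_zero.mp h')
    show s⁻¹ * B (ω *ᵥ ((h : MM) *ᵥ v)) ((h : MM) *ᵥ v) = ((1 : Fˣ) : F) * (s⁻¹ * B (ω *ᵥ v) v)
    rw [Units.val_one, one_mul]
    congr 1
    have hhw : ω *ᵥ ((h : MM) *ᵥ v) = (h : MM) *ᵥ (w *ᵥ v) := by
      rw [hw, Matrix.mulVec_mulVec, Matrix.mulVec_mulVec, ← mul_assoc, ← mul_assoc, ← Units.val_mul,
        mul_inv_cancel, Units.val_one, one_mul]
    rw [hhw, hp]
    rcases hw2 with e | e <;> rw [e]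
    rw [(AA).skew, neg_eq_iff_add_eq_zero]
    have h3 : B v (ω' *ᵥ v) = B (ω *ᵥ v) v := by rw [← hB, ← hB]; exact (hadjω v v).symm
    rw [h3, ← two_mul, h2, zero_mul]
  · exact main K hK hadj hnorm
  · obtain ⟨L, hL, ha, hn⟩ := exists_half (by omega) hK hadj
    exact main L hL ha fun h hh => hn h (hnorm h hh)

end Cfsg.Agent.Lib.SympTwoPrime
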