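import Cfsg.Agent.Lib.MaxTensor.Homogeneous

/-!
Explicit Kronecker form of the normaliser of a homogeneous module, and membership of tensor subgroups
through a chosen tensor frame.
-/

set_option autoImplicit false

namespace Cfsg.Agent.Lib.SympTwoPrime

open Matrix Cfsg.Geo
open Cfsg.Agent.Lib.MaxTensor
open scoped MatrixGroups Matrix Kronecker

variable {ι : Type} [Fintype ι] [DecidableEq ι] {F : Type*} [Field F]

/-- A map acting as a Kronecker product in a tensor frame lies in the tensor subgroup of that frame. -/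
theorem exists_tensor_frame {a b : ℕ} (L : ((Fin a × Fin b) → F) ≃ₗ[F] (ι → F)) :
    ∃ (e : ι ≃ Fin a × Fin b) (P : GL ι F), (∀ x, (P : Matrix ι ι F) *ᵥ (x ∘ e) = L x) ∧
      ∀ (h : GL ι F) (C : GL (Fin a) F) (D : GL (Fin b) F),
        (∀ x, (h : Matrix ι ι F) *ᵥ L x =
          L (((C : Matrix (Fin a) (Fin a) F) ⊗ₖ (D : Matrix (Fin b) (Fin b) F)) *ᵥ x)) →
        h ∈ tensorProductSubgroup a b e P := by
  classical
  have hcard : Fintype.card ι = Fintype.card (Fin a × Fin b) := by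
    have := L.finrank_eq
    rw [Module.finrank_fintype_fun_eq_card, Module.finrank_fintype_fun_eq_card] at this
    exact this.symm
  let e : ι ≃ Fin a × Fin b := Fintype.equivOfCardEq hcard
  let T : (ι → F) ≃ₗ[F] (ι → F) := (LinearEquiv.funCongrLeft F F e.symm).trans L
  let P : GL ι F :=
    ⟨LinearMap.toMatrix' T.toLinearMap, LinearMap.toMatrix' T.symm.toLinearMap,
      by rw [← LinearMap.toMatrix'_comp]; simp, by rw [← LinearMap.toMatrix'_comp]; simp⟩
  have hP : ∀ x : Fin a × Fin b → F, (P : Matrix ι ι F) *ᵥ (x ∘ e) = L x := by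
    intro x
    show LinearMap.toMatrix' T.toLinearMap *ᵥ (x ∘ e) = L x
    rw [← Matrix.toLin'_apply, Matrix.toLin'_toMatrix']
    show L (LinearEquiv.funCongrLeft F F e.symm (x ∘ e)) = L x
    congr 1
    funext p
    simp [LinearEquiv.funCongrLeft]
  refine ⟨e, P, hP, fun h C D hh => ?_⟩
  have hK : IsUnit ((C : Matrix (Fin a) (Fin a) F) ⊗ₖ (D : Matrix (Fin b) (Fin b) F)) :=
    IsUnit.of_mul_eq_one (((C⁻¹ : GL (Fin a) F) : Matrix (Fin a) (Fin a) F) ⊗ₖ
      ((D⁻¹ : GL (Fin b) F) : Matrix (Fin b) (Fin b) F)) (by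
        rw [← Matrix.mul_kronecker_mul, Units.mul_inv, Units.mul_inv, Matrix.one_kronecker_one])
  obtain ⟨K, hK⟩ := hK
  refine ⟨Cfsg.Geo.glReindex e.symm K, ⟨K, ⟨C, D, hK⟩, rfl⟩, ?_⟩
  show P * Cfsg.Geo.glReindex e.symm K * P⁻¹ = h
  rw [mul_inv_eq_iff_eq_mul]
  refine Units.ext (Matrix.toLin'.injective (LinearMap.ext fun y => ?_))
  rw [Matrix.toLin'_apply, Matrix.toLin'_apply, Units.val_mul, Units.val_mul, ← Matrix.mulVec_mulVec,
    ← Matrix.mulVec_mulVec]
  obtain ⟨x, rfl⟩ : ∃ x : Fin a × Fin b → F, y = x ∘ e := ⟨y ∘ e.symm, by simp [Function.comp_assoc]⟩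
  have hre : (Cfsg.Geo.glReindex e.symm K : GL ι F).1 *ᵥ (x ∘ e) = ((K : Matrix _ _ F) *ᵥ x) ∘ e := by
    show Matrix.reindex e.symm e.symm (K : Matrix _ _ F) *ᵥ _ = _
    rw [Matrix.reindex_apply, Equiv.symm_symm, Matrix.submatrix_mulVec_equiv, Function.comp_assoc,
      Equiv.self_comp_symm, Function.comp_id]
  rw [hre, hP, hP, hh, hK]

/-- A Kronecker product applied with the two factors exchanged. -/
theorem kronecker_mulVec_swap {a b : ℕ} (C : Matrix (Fin a) (Fin a) F) (D : Matrix (Fin b) (Fin b) F)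
    (x : Fin b × Fin a → F) : (C ⊗ₖ D) *ᵥ (x ∘ Prod.swap) = ((D ⊗ₖ C) *ᵥ x) ∘ Prod.swap := by
  funext p
  show ∑ q, (C ⊗ₖ D) p q * x q.swap = ∑ q, (D ⊗ₖ C) p.swap q * x q
  refine Fintype.sum_equiv (Equiv.prodComm _ _) _ _ fun q => ?_
  simp only [Matrix.kroneckerMap_apply, Equiv.prodComm_apply, Prod.fst_swap, Prod.snd_swap]
  ring

/-- The normaliser of `k` copies of an irreducible module with scalar endomorphisms acts by Kronecker products. -/
theorem exists_kronecker {N : Subgroup (GL ι F)} {d k : ℕ} (hd : 0 < d) (hk : 0 < k)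
    (A : N → Matrix (Fin d) (Fin d) F)
    (hirr : ∀ U : Submodule F (Fin d → F), (∀ n, ∀ u ∈ U, A n *ᵥ u ∈ U) → U = ⊥ ∨ U = ⊤)
    (hscal : ∀ M : Matrix (Fin d) (Fin d) F, (∀ n, M * A n = A n * M) → ∃ c : F, M = c • 1)
    (φ : Fin k → (Fin d → F) →ₗ[F] (ι → F))
    (hequiv : ∀ j (n : N) x, ((n : GL ι F) : Matrix ι ι F) *ᵥ φ j x = φ j (A n *ᵥ x))
    (hbij : Function.Bijective (assemble φ)) (h : GL ι F) (hh : ∀ x ∈ N, h * x * h⁻¹ ∈ N) :
    ∃ (C : GL (Fin d) F) (D : GL (Fin k) F), ∀ v : Fin k → Fin d → F, (h : Matrix ι ι F) *ᵥ assemble φ v =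
      assemble φ fun a => ∑ b, (D : Matrix (Fin k) (Fin k) F) a b • ((C : Matrix (Fin d) (Fin d) F) *ᵥ v b) := by
  classical
  set S := assemble φ with hS
  let Φ := LinearEquiv.ofBijective S hbij
  let Mh : (Fin k → Fin d → F) →ₗ[F] (Fin k → Fin d → F) :=
    Φ.symm.toLinearMap ∘ₗ Matrix.toLin' (h : Matrix ι ι F) ∘ₗ Φ.toLinearMap
  have hMh : ∀ v, (h : Matrix ι ι F) *ᵥ S v = S (Mh v) := by
    intro v
    have : Φ (Mh v) = (h : Matrix ι ι F) *ᵥ Φ v := by
      simp [Mh, Matrix.toLin'_apply]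
    exact this.symm
  have hN : ∀ (n : N) v, ((n : GL ι F) : Matrix ι ι F) *ᵥ S v = S (fun j => A n *ᵥ v j) := by
    intro n v
    simp only [hS, assemble, LinearMap.coe_mk, AddHom.coe_mk, Matrix.mulVec_sum, hequiv]
  let conjN : N → N := fun n => ⟨h * n * h⁻¹, hh _ n.2⟩
  have hcomm : ∀ n v, Mh (fun j => A n *ᵥ v j) = fun j => A (conjN n) *ᵥ Mh v j := by
    intro n v
    apply hbij.1
    show S _ = S _
    rw [← hMh, ← hN, ← hN, ← hMh, Matrix.mulVec_mulVec, Matrix.mulVec_mulVec, ← Units.val_mul,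
      ← Units.val_mul]
    show _ = ((h * n * h⁻¹ * h : GL ι F) : Matrix ι ι F) *ᵥ _
    rw [inv_mul_cancel_right]
  let B : Fin k → Fin k → Matrix (Fin d) (Fin d) F := fun a b =>
    LinearMap.toMatrix' ((LinearMap.proj a).comp (Mh.comp (LinearMap.single F (fun _ => Fin d → F) b)))
  have hB : ∀ a b x, B a b *ᵥ x = Mh (Pi.single b x) a := by
    intro a b x
    rw [← Matrix.toLin'_apply]
    simp [B]
  have hMB : ∀ v a, Mh v a = ∑ b, B a b *ᵥ v b := by
    intro v a
    conv_lhs => rw [← Finset.univ_sum_single v, map_sum, Finset.sum_apply]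
    simp [hB]
  have hint : ∀ n a b, B a b * A n = A (conjN n) * B a b := by
    intro n a b
    refine Matrix.toLin'.injective (LinearMap.ext fun x => ?_)
    rw [Matrix.toLin'_apply, Matrix.toLin'_apply, ← Matrix.mulVec_mulVec, ← Matrix.mulVec_mulVec,
      hB, hB]
    have hsingle : (fun j => A n *ᵥ (Pi.single b x : Fin k → Fin d → F) j) = Pi.single b (A n *ᵥ x) := by
      funext j
      by_cases hj : j = b
      · subst hj; simp
      · simp [hj]
    rw [← hsingle, hcomm]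
  have hMinj : Function.Injective Mh := by
    intro v w hvw
    apply hbij.1
    have h1 : (h : Matrix ι ι F) *ᵥ S v = (h : Matrix ι ι F) *ᵥ S w := by rw [hMh, hMh, hvw]
    have h2 := congrArg (fun u => ((h⁻¹ : GL ι F) : Matrix ι ι F) *ᵥ u) h1
    simpa [Matrix.mulVec_mulVec] using h2
  obtain ⟨a₀, b₀, hne⟩ : ∃ a b, B a b ≠ 0 := by
    by_contra hcon
    push Not at hcon
    haveI : Nonempty (Fin d) := ⟨⟨0, hd⟩⟩
    let v : Fin k → Fin d → F := fun _ _ => 1
    have h0 : Mh v = Mh 0 := by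
      funext a
      rw [map_zero, hMB]
      simp [hcon]
    have := congrFun (congrFun (hMinj h0) ⟨0, hk⟩) ⟨0, hd⟩
    exact one_ne_zero this
  have hinv : ∃ C : GL (Fin d) F, (C : Matrix (Fin d) (Fin d) F) = B a₀ b₀ := by
    have hker : LinearMap.ker (Matrix.toLin' (B a₀ b₀)) = ⊥ := by
      refine (hirr _ fun n u hu => ?_).resolve_right fun htop => hne ?_
      · rw [LinearMap.mem_ker, Matrix.toLin'_apply] at hu ⊢
        rw [Matrix.mulVec_mulVec, hint, ← Matrix.mulVec_mulVec, hu, Matrix.mulVec_zero]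
      · refine Matrix.toLin'.injective ?_
        rw [map_zero]
        exact LinearMap.ker_eq_top.1 htop
    have hu : IsUnit (B a₀ b₀) := by
      rw [← Matrix.mulVec_injective_iff_isUnit]
      intro u w huw
      exact LinearMap.ker_eq_bot.1 hker (by rwa [Matrix.toLin'_apply, Matrix.toLin'_apply])
    exact ⟨hu.unit, hu.unit_spec⟩
  obtain ⟨C, hC⟩ := hinv
  have hb : ∀ a b, ∃ c : F, ((C⁻¹ : GL (Fin d) F) : Matrix (Fin d) (Fin d) F) * B a b = c • 1 := by
    intro a b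
    refine hscal _ fun n => ?_
    have h1 : A (conjN n) = (C : Matrix (Fin d) (Fin d) F) * A n * ((C⁻¹ : GL (Fin d) F) : Matrix (Fin d) (Fin d) F) := by
      rw [hC, hint, ← hC, mul_assoc, Units.mul_inv, mul_one]
    calc ((C⁻¹ : GL (Fin d) F) : Matrix (Fin d) (Fin d) F) * B a b * A n
        = ((C⁻¹ : GL (Fin d) F) : Matrix (Fin d) (Fin d) F) * (A (conjN n) * B a b) := by rw [mul_assoc, hint]
      _ = A n * (((C⁻¹ : GL (Fin d) F) : Matrix (Fin d) (Fin d) F) * B a b) := by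
        rw [h1, ← mul_assoc, ← mul_assoc, ← mul_assoc, Units.inv_mul, one_mul, mul_assoc]
  choose β hβ using hb
  have hBC : ∀ a b, B a b = β a b • (C : Matrix (Fin d) (Fin d) F) := by
    intro a b
    have := congrArg (fun M => (C : Matrix (Fin d) (Fin d) F) * M) (hβ a b)
    simpa [← mul_assoc] using this
  let β' : Matrix (Fin k) (Fin k) F := Matrix.of β
  have hu : IsUnit β' := by
    rw [← Matrix.mulVec_injective_iff_isUnit]
    intro u w huw
    haveI : Nonempty (Fin d) := ⟨⟨0, hd⟩⟩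
    let x₀ : Fin d → F := fun _ => 1
    have key : ∀ u : Fin k → F, Mh (fun b => u b • x₀) = fun a => (β' *ᵥ u) a • ((C : Matrix (Fin d) (Fin d) F) *ᵥ x₀) := by
      intro u
      funext a
      rw [hMB]
      show ∑ b, B a b *ᵥ (u b • x₀) = (∑ b, β a b * u b) • _
      rw [Finset.sum_smul]
      refine Finset.sum_congr rfl fun b _ => ?_
      rw [hBC, Matrix.smul_mulVec, Matrix.mulVec_smul, smul_smul]
    have h1 : (fun b => u b • x₀) = fun b => w b • x₀ := hMinj (by rw [key, key, huw])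
    funext b
    simpa [x₀] using congrFun (congrFun h1 b) ⟨0, hd⟩
  obtain ⟨D, hD⟩ := hu
  refine ⟨C, D, fun v => ?_⟩
  rw [hMh]
  congr 1
  funext a
  rw [hMB, hD]
  exact Finset.sum_congr rfl fun b _ => by rw [hBC, Matrix.smul_mulVec]; rfl

end Cfsg.Agent.Lib.SympTwoPrime
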